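import Mathlib.GroupTheory.Perm.Sign
import Mathlib.Data.Fintype.Perm
import Mathlib.SetTheory.Cardinal.Finite
import Mathlib.GroupTheory.Subgroup.Centralizer
import Mathlib.Tactic.Ring

/-!
# Facts about permutations of at most four points
-/

set_option autoImplicit false

namespace CfsgLib.Perm.FixityFour

theorem fin_central : ((Finset.univ : Finset (Equiv.Perm (Fin 4))).filter fun a =>
    a ≠ 1 ∧ 8 ≤ ((Finset.univ : Finset (Equiv.Perm (Fin 4))).filter fun b => a * b = b * a).card).card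
      ≤ 3 := by decide +kernel

theorem fin_fpf_invol_mul : ∀ a b : Equiv.Perm (Fin 4), a * a = 1 → b * b = 1 →
    (∀ i, a i ≠ i) → (∀ i, b i ≠ i) → (a * b) * (a * b) = 1 := by decide +kernel

theorem fin_fpf_comm : ∀ a r : Equiv.Perm (Fin 4), a * a = 1 →
    (∀ i, a i ≠ i) → a * r = r * a → r ^ 8 = 1 := by decide +kernel

theorem fin_transposition : ∀ a : Equiv.Perm (Fin 4), a * a = 1 → a ≠ 1 → (∃ i, a i = i) →
    (∀ b : Equiv.Perm (Fin 4), a * b = b * a → b * b = 1) ∧
    ((Finset.univ : Finset (Equiv.Perm (Fin 4))).filter fun b => a * b = b * a).card = 4 := by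
  decide +kernel

variable {α : Type*} [Fintype α] [DecidableEq α]

theorem card_commutative_ne_eight (hα : Fintype.card α = 4) (A : Subgroup (Equiv.Perm α))
    (hA : ∀ a ∈ A, ∀ b ∈ A, a * b = b * a) : Nat.card A ≠ 8 := by
  classical
  intro h8
  let e : Equiv.Perm α ≃* Equiv.Perm (Fin 4) :=
    Equiv.permCongrHom (Fintype.equivFinOfCardEq hα)
  let B : Finset (Equiv.Perm (Fin 4)) := (Finset.univ.filter fun a => a ∈ A).map e.toEquiv.toEmbedding
  have hB : B.card = 8 := by
    rw [Finset.card_map, ← h8, Nat.card_eq_fintype_card, Fintype.card_subtype]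
  have hcomm : ∀ a ∈ B, ∀ b ∈ B, a * b = b * a := by
    intro a ha b hb
    obtain ⟨x, hx, rfl⟩ := Finset.mem_map.1 ha
    obtain ⟨y, hy, rfl⟩ := Finset.mem_map.1 hb
    show e x * e y = e y * e x
    rw [← map_mul, ← map_mul, hA x (Finset.mem_filter.1 hx).2 y (Finset.mem_filter.1 hy).2]
  have hsub : B.erase 1 ⊆ (Finset.univ : Finset (Equiv.Perm (Fin 4))).filter fun a =>
      a ≠ 1 ∧ 8 ≤ ((Finset.univ : Finset (Equiv.Perm (Fin 4))).filter fun b => a * b = b * a).card := by
    intro a ha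
    obtain ⟨ha1, haB⟩ := Finset.mem_erase.1 ha
    refine Finset.mem_filter.2 ⟨Finset.mem_univ _, ha1, hB ▸ Finset.card_le_card fun b hb => ?_⟩
    exact Finset.mem_filter.2 ⟨Finset.mem_univ _, hcomm a haB b hb⟩
  have h1 := (Finset.card_le_card hsub).trans fin_central
  have h2 : B.card ≤ (B.erase 1).card + 1 := by
    have := Finset.pred_card_le_card_erase (a := (1 : Equiv.Perm (Fin 4))) (s := B)
    omega
  omega

theorem fpf_invol_mul (hα : Fintype.card α = 4) {a b : Equiv.Perm α} (ha : a * a = 1) (hb : b * b = 1)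
    (ha' : ∀ i, a i ≠ i) (hb' : ∀ i, b i ≠ i) : (a * b) * (a * b) = 1 := by
  let q := Fintype.equivFinOfCardEq hα
  let e : Equiv.Perm α ≃* Equiv.Perm (Fin 4) := Equiv.permCongrHom q
  have hfp : ∀ c : Equiv.Perm α, (∀ i, c i ≠ i) → ∀ i, e c i ≠ i := fun c hc i he =>
    hc (q.symm i) (q.injective (by simpa [e, Equiv.permCongrHom, Equiv.permCongr_apply] using he))
  refine e.injective ?_
  rw [map_one, map_mul, map_mul]
  exact fin_fpf_invol_mul _ _ (by rw [← map_mul, ha, map_one]) (by rw [← map_mul, hb, map_one])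
    (hfp a ha') (hfp b hb')

theorem fpf_comm (hα : Fintype.card α = 4) {a r : Equiv.Perm α} (ha : a * a = 1) (ha' : ∀ i, a i ≠ i)
    (h : a * r = r * a) : r ^ 8 = 1 := by
  let q := Fintype.equivFinOfCardEq hα
  let e : Equiv.Perm α ≃* Equiv.Perm (Fin 4) := Equiv.permCongrHom q
  have hfp : ∀ i, e a i ≠ i := fun i he =>
    ha' (q.symm i) (q.injective (by simpa [e, Equiv.permCongrHom, Equiv.permCongr_apply] using he))
  refine e.injective ?_
  rw [map_one, map_pow]
  exact fin_fpf_comm _ _ (by rw [← map_mul, ha, map_one]) hfp (by rw [← map_mul, h, map_mul])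

theorem transposition_comm (hα : Fintype.card α = 4) {a : Equiv.Perm α} (ha : a * a = 1) (h1 : a ≠ 1)
    {i : α} (hi : a i = i) :
    (∀ b : Equiv.Perm α, a * b = b * a → b * b = 1) ∧
      Nat.card (Subgroup.centralizer ({a} : Set (Equiv.Perm α))) = 4 := by
  classical
  let q := Fintype.equivFinOfCardEq hα
  let e : Equiv.Perm α ≃* Equiv.Perm (Fin 4) := Equiv.permCongrHom q
  obtain ⟨f1, f2⟩ := fin_transposition (e a) (by rw [← map_mul, ha, map_one])
    (fun h => h1 (e.injective (h.trans (map_one e).symm)))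
    ⟨q i, by simp [e, Equiv.permCongrHom, Equiv.permCongr_apply, hi]⟩
  refine ⟨fun b hb => e.injective ?_, ?_⟩
  · rw [map_one, map_mul]
    exact f1 (e b) (by rw [← map_mul, hb, map_mul])
  · rw [← f2, ← Fintype.card_subtype, ← Nat.card_eq_fintype_card]
    refine Nat.card_congr (e.toEquiv.subtypeEquiv fun b => ?_)
    rw [Subgroup.mem_centralizer_singleton_iff]
    show b * a = a * b ↔ e a * e b = e b * e a
    rw [← map_mul, ← map_mul, e.injective.eq_iff]
    exact eq_comm

end CfsgLib.Perm.FixityFour
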