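import Cfsg.Agent.Lib.Perm.FixityFour.Basic
import Cfsg.Agent.Lib.Perm.FixityFour.PermFour
import Cfsg.Agent.Lib.Invol.StronglyEmbedded
import Cfsg.Agent.Lib.Invol.ZStar

/-!
# A fixed point set with exact involutions gives a strongly embedded subgroup
-/

set_option autoImplicit false
set_option linter.unusedSectionVars false

open MulAction Subgroup
open scoped Pointwise

namespace CfsgLib.Perm.FixityFour

open CfsgLib.Invol

variable {G Ω : Type*} [Group G] [MulAction G Ω] [Finite G] [Finite Ω]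

theorem fixedBy_inv' (g : G) : fixedBy Ω g⁻¹ = fixedBy Ω g := by
  ext a
  show g⁻¹ • a = a ↔ g • a = a
  rw [inv_smul_eq_iff, eq_comm]

theorem conj_fixedBy_nonempty {x : G} (g : G) :
    (fixedBy Ω (g * x * g⁻¹)).Nonempty ↔ (fixedBy Ω x).Nonempty := by
  rw [← smul_fixedBy_eq, Set.smul_set_nonempty]

/-- The reflections of two point-fixing involutions fix points. -/
theorem reflection_fix {d e : G} (hd : orderOf d = 2) (he : orderOf e = 2)
    (hdf : (fixedBy Ω d).Nonempty) (hef : (fixedBy Ω e).Nonempty) (k : ℤ) :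
    (fixedBy Ω (d * (d * e) ^ k)).Nonempty := by
  rcases Int.even_or_odd' k with ⟨l, rfl | rfl⟩
  · have h := zpow_conj_invol hd he (-l)
    rw [show -(2 * -l) = 2 * l by ring] at h
    rw [← h]
    exact (conj_fixedBy_nonempty _).2 hdf
  · have hde : e = d * (d * e) := by rw [← mul_assoc, invol_mul_self hd, one_mul]
    have h : (d * e) ^ (-l) * e * ((d * e) ^ (-l))⁻¹ = d * (d * e) ^ (2 * l + 1) := by
      calc (d * e) ^ (-l) * e * ((d * e) ^ (-l))⁻¹
          = (d * e) ^ (-l) * (d * (d * e)) * ((d * e) ^ (-l))⁻¹ := by rw [← hde]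
        _ = ((d * e) ^ (-l) * d * ((d * e) ^ (-l))⁻¹) * (d * e) := by
          generalize d * e = a
          group
        _ = d * (d * e) ^ (2 * l + 1) := by
          rw [zpow_conj_invol hd he, mul_assoc, ← zpow_add_one]
          congr 2; ring
    rw [← h]
    exact (conj_fixedBy_nonempty _).2 hef

/-- Two point-fixing involutions with different fixed point sets have a product of odd order, if
commuting ones have equal fixed point sets. -/
theorem odd_of_fix_ne
    (hA : ∀ d e : G, orderOf d = 2 → orderOf e = 2 → (fixedBy Ω d).Nonempty →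
      (fixedBy Ω e).Nonempty → Commute d e → fixedBy Ω d = fixedBy Ω e) {d e : G}
    (hd : orderOf d = 2) (he : orderOf e = 2) (hdf : (fixedBy Ω d).Nonempty)
    (hef : (fixedBy Ω e).Nonempty) (hne : fixedBy Ω d ≠ fixedBy Ω e) : Odd (orderOf (d * e)) := by
  by_contra hodd
  rw [Nat.not_odd_iff_even] at hodd
  set c := (d * e) ^ (orderOf (d * e) / 2) with hc
  have hco : orderOf c = 2 := orderOf_pow_half hodd
  have hcd : Commute c d := commute_pow_half (invol_conj_mul hd he) hodd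
  have hce : Commute c e := commute_pow_half (invol_conj_mul' hd he) hodd
  have hfo : orderOf (d * c) = 2 := by
    rw [hc, ← zpow_natCast]
    exact orderOf_reflection hd he _
  have hff : (fixedBy Ω (d * c)).Nonempty := by
    rw [hc, ← zpow_natCast]
    exact reflection_fix hd he hdf hef _
  have hdc : Commute d (d * c) := (Commute.refl d).mul_right hcd.symm
  have heq := hA _ _ hd hfo hdf hff hdc
  have hcf : (fixedBy Ω c).Nonempty := by
    obtain ⟨a, ha⟩ := hdf
    refine ⟨a, ?_⟩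
    have h2 : (d * c) • a = a := (heq ▸ ha : a ∈ fixedBy Ω (d * c))
    show c • a = a
    rw [show c = d * (d * c) by rw [← mul_assoc, invol_mul_self hd, one_mul], mul_smul, h2]
    exact ha
  exact hne ((hA _ _ hco hd hcf hdf hcd).symm.trans (hA _ _ hco he hcf hef hce))

/-- `S` is a Sylow 2-subgroup stabilizing `Φ`, the fixed point set of all its point-fixing
involutions, and every other involution of it is fixed point free on the four points of `Φ`. -/
structure Exact (S : Sylow 2 G) (Φ : Set Ω) : Prop where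
  bound : AtMostFour G Ω
  faith : ∀ g : G, (∀ ω : Ω, g • ω = ω) → g = 1
  ne : Φ.Nonempty
  small : Φ.ncard ≤ 4
  ex : ∃ t ∈ (S : Subgroup G), orderOf t = 2 ∧ fixedBy Ω t = Φ
  stab : ∀ s ∈ (S : Subgroup G), s • Φ = Φ
  exact_fix : ∀ u ∈ (S : Subgroup G), orderOf u = 2 → (fixedBy Ω u).Nonempty → fixedBy Ω u = Φ
  invol : ∀ u ∈ (S : Subgroup G), orderOf u = 2 →
    Φ ⊆ fixedBy Ω u ∨ (Φ.ncard = 4 ∧ ∀ a ∈ Φ, u • a ≠ a)

variable {S : Sylow 2 G} {Φ : Set Ω}

theorem Exact.le_stab (E : Exact S Φ) : (S : Subgroup G) ≤ stabilizer G Φ :=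
  fun s hs => mem_stabilizer_iff.2 (E.stab s hs)

theorem Exact.fix_of_mem (E : Exact S Φ) {u : G} (hu : u ∈ stabilizer G Φ) (hu2 : orderOf u = 2) :
    fixedBy Ω u = Φ ∨ (fixedBy Ω u = ∅ ∧ Φ.ncard = 4) := by
  haveI : Fact (Nat.Prime 2) := ⟨Nat.prime_two⟩
  have hQ : IsPGroup 2 (zpowers (⟨u, hu⟩ : stabilizer G Φ)) :=
    IsPGroup.of_card (n := 1) (by rw [Nat.card_zpowers, Subgroup.orderOf_mk, hu2, pow_one])
  obtain ⟨h, hh⟩ := exists_conj_le_sylow hQ (S.subtype E.le_stab)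
  have hmem : (h : G) * u * (h : G)⁻¹ ∈ (S : Subgroup G) := hh _ (mem_zpowers _)
  have ho : orderOf ((h : G) * u * (h : G)⁻¹) = 2 := invol_conj hu2 _
  have hhΦ : (h : G) • Φ = Φ := h.2
  rcases (fixedBy Ω u).eq_empty_or_nonempty with hemp | hne
  · refine Or.inr ⟨hemp, ?_⟩
    rcases E.invol _ hmem ho with h1 | ⟨h4, -⟩
    · exfalso
      have := ((conj_fixedBy_nonempty (h : G)).1 (E.ne.mono h1))
      simp [hemp] at this
    · exact h4
  · refine Or.inl ?_
    have := E.exact_fix _ hmem ho ((conj_fixedBy_nonempty _).2 hne)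
    rw [← smul_fixedBy_eq] at this
    conv_rhs at this => rw [← hhΦ]
    exact smul_left_cancel _ this

theorem Exact.fix_mem (E : Exact S Φ) {u : G} (hu : u ∈ stabilizer G Φ) (hu2 : orderOf u = 2)
    (hne : (fixedBy Ω u).Nonempty) : fixedBy Ω u = Φ := by
  rcases E.fix_of_mem hu hu2 with h | ⟨h, -⟩
  · exact h
  · rw [h] at hne
    exact absurd hne Set.not_nonempty_empty

theorem Exact.commute_fix (E : Exact S Φ) (d e : G) (hd : orderOf d = 2) (he : orderOf e = 2)
    (hdf : (fixedBy Ω d).Nonempty) (hef : (fixedBy Ω e).Nonempty) (hde : Commute d e) :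
    fixedBy Ω d = fixedBy Ω e := by
  haveI : Fact (Nat.Prime 2) := ⟨Nat.prime_two⟩
  obtain ⟨g, hg⟩ := exists_conj_le_sylow (IsPGroup.of_card (n := 1)
    (by rw [Nat.card_zpowers, hd, pow_one]) : IsPGroup 2 (zpowers d)) S
  have hd' := E.exact_fix _ (hg d (mem_zpowers d)) (invol_conj hd g)
    ((conj_fixedBy_nonempty g).2 hdf)
  have hmem : g * e * g⁻¹ ∈ stabilizer G Φ := by
    rw [mem_stabilizer_iff, ← hd']
    exact smul_fixedBy_of_commute (hde.symm.map (MulAut.conj g).toMonoidHom)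
  have he' := E.fix_mem hmem (invol_conj he g) ((conj_fixedBy_nonempty g).2 hef)
  rw [← smul_fixedBy_eq] at hd' he'
  exact smul_left_cancel g (hd'.trans he'.symm)

theorem Exact.stronglyEmbedded [IsSimpleGroup G] [IsPretransitive G Ω] (E : Exact S Φ)
    (hna : ¬ IsMulCommutative G) : ∃ H : Subgroup G, Cfsg.IsStronglyEmbedded H := by
  classical
  obtain ⟨t, htS, ht, htΦ⟩ := E.ex
  have htH : t ∈ stabilizer G Φ := E.le_stab htS
  refine ⟨stabilizer G Φ, ?_⟩
  have htop : stabilizer G Φ ≠ ⊤ := by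
    intro hH
    obtain ⟨a, ha⟩ := E.ne
    refine invol_ne_one ht (E.faith t fun ω => ?_)
    obtain ⟨g, rfl⟩ := exists_smul_eq G a ω
    have hg : g • Φ = Φ := mem_stabilizer_iff.1 (hH ▸ Subgroup.mem_top g)
    have hmem : g • a ∈ fixedBy Ω t := by
      rw [htΦ, ← hg]
      exact Set.smul_mem_smul_set ha
    exact hmem
  refine (stronglyEmbedded_iff htop (even_card_of_invol_mem htH ht)).2 fun u hu huo g hgu => ?_
  by_contra hg
  -- an involution of both subgroups fixes no point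
  set Φ₁ := g • Φ with hΦ₁
  have hne : Φ₁ ≠ Φ := fun h => hg (mem_stabilizer_iff.2 h)
  set v := g * u * g⁻¹ with hv
  have hvo : orderOf v = 2 := invol_conj huo g
  have hvH : v • Φ = Φ := mem_stabilizer_iff.1 hgu
  have hboth : ∀ x : G, x • Φ = Φ → x • Φ₁ = Φ₁ → orderOf x = 2 →
      fixedBy Ω x = ∅ ∧ Φ.ncard = 4 := by
    intro x hx hx₁ hxo
    rcases E.fix_of_mem (mem_stabilizer_iff.2 hx) hxo with h | h
    · exfalso
      have hx' : g⁻¹ * x * g⁻¹⁻¹ ∈ stabilizer G Φ := by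
        rw [mem_stabilizer_iff, inv_inv, mul_smul, mul_smul]
        show g⁻¹ • x • Φ₁ = Φ
        rw [hx₁, hΦ₁, inv_smul_smul]
      have h' := E.fix_mem hx' (invol_conj hxo _) ((conj_fixedBy_nonempty _).2 (h ▸ E.ne))
      rw [← smul_fixedBy_eq, h, inv_smul_eq_iff] at h'
      exact hne h'.symm
    · exact h
  have hvΦ₁ : v • Φ₁ = Φ₁ := by
    rw [hΦ₁, ← mul_smul, hv, inv_mul_cancel_right, mul_smul, mem_stabilizer_iff.1 hu]
  obtain ⟨hv0, h4⟩ := hboth v hvH hvΦ₁ hvo
  have hkill : ∀ x : G, Φ ⊆ fixedBy Ω x → Φ₁ ⊆ fixedBy Ω x → x = 1 := by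
    intro x h1 h2
    refine E.bound.eq_one (A := Φ ∪ Φ₁) ?_ (Set.union_subset h1 h2)
    rw [← h4]
    exact Set.ncard_lt_ncard (ssubset_of_subset_of_ne Set.subset_union_left fun h => hne
      (Set.eq_of_subset_of_ncard_le (h ▸ Set.subset_union_right)
        (by rw [hΦ₁, Set.ncard_smul_set])))
  -- swaps
  have hA := E.commute_fix
  have htne : (fixedBy Ω t).Nonempty := htΦ ▸ E.ne
  set e := g * t * g⁻¹ with he
  have heo : orderOf e = 2 := invol_conj ht g
  have heΦ : fixedBy Ω e = Φ₁ := by rw [he, ← smul_fixedBy_eq, htΦ]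
  have hswap : ∀ d : G, orderOf d = 2 → fixedBy Ω d = Φ →
      ∃ w : G, orderOf w = 2 ∧ (fixedBy Ω w).Nonempty ∧ w • Φ = Φ₁ ∧ w • Φ₁ = Φ ∧
        w * d * w⁻¹ = e := by
    intro d hd hdΦ
    have hdf : (fixedBy Ω d).Nonempty := hdΦ ▸ E.ne
    have hef : (fixedBy Ω e).Nonempty := heΦ ▸ (E.ne.image _ : (g • Φ).Nonempty)
    have hodd := odd_of_fix_ne hA hd heo hdf hef (by rw [hdΦ, heΦ]; exact hne.symm)
    obtain ⟨z, hz, hzd⟩ := exists_conj_eq_of_odd hd heo hodd
    obtain ⟨k, rfl⟩ := Subgroup.mem_zpowers_iff.1 hz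
    have hr : (d * e) ^ k * d = d * (d * e) ^ (-k) := zpow_mul_invol hd (invol_conj_mul hd heo) k
    have hwo : orderOf ((d * e) ^ k * d) = 2 := hr ▸ orderOf_reflection hd heo _
    have hwd : ((d * e) ^ k * d) * d * ((d * e) ^ k * d)⁻¹ = e := by
      refine Eq.trans ?_ hzd
      generalize (d * e) ^ k = z
      group
    have hwΦ : ((d * e) ^ k * d) • Φ = Φ₁ := by
      rw [← hdΦ, smul_fixedBy_eq, hwd, heΦ]
    refine ⟨_, hwo, hr ▸ reflection_fix hd heo hdf hef _, hwΦ, ?_, hwd⟩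
    conv_lhs => rw [← hwΦ, ← mul_smul, invol_mul_self hwo, one_smul]
  have hswap_odd : ∀ w w' : G, orderOf w = 2 → orderOf w' = 2 → (fixedBy Ω w).Nonempty →
      (fixedBy Ω w').Nonempty → w • Φ = Φ₁ → w • Φ₁ = Φ → w' • Φ = Φ₁ → w' • Φ₁ = Φ →
      Odd (orderOf (w' * w)) := by
    intro w w' hw hw' hwf hwf' h1 h2 h1' h2'
    by_cases hC : fixedBy Ω w' = fixedBy Ω w
    swap
    · exact odd_of_fix_ne hA hw' hw hwf' hwf hC
    by_contra hev
    rw [Nat.not_odd_iff_even] at hev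
    set c := (w' * w) ^ (orderOf (w' * w) / 2) with hc
    have hcfix : (fixedBy Ω c).Nonempty := by
      obtain ⟨a, ha⟩ := hwf
      refine ⟨a, fixedBy_subset_pow (w' * w) _ (?_ : (w' * w) • a = a)⟩
      rw [mul_smul, ha]
      exact (hC ▸ ha : a ∈ fixedBy Ω w')
    have hr : ∀ A : Set Ω, (w' * w) • A = A → c • A = A := fun A hA' =>
      mem_stabilizer_iff.1 (pow_mem (mem_stabilizer_iff.2 hA') _)
    rw [(hboth c (hr _ (by rw [mul_smul, h1, h2'])) (hr _ (by rw [mul_smul, h2, h1']))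
      (orderOf_pow_half hev)).1] at hcfix
    exact Set.not_nonempty_empty hcfix
  -- the restrictions
  haveI : Fintype Φ := Fintype.ofFinite _
  haveI : Fintype Φ₁ := Fintype.ofFinite _
  have hcard : Fintype.card Φ = 4 := by rw [← Nat.card_eq_fintype_card, Nat.card_coe_set_eq, h4]
  have hcard₁ : Fintype.card Φ₁ = 4 := by
    rw [← Nat.card_eq_fintype_card, Nat.card_coe_set_eq, hΦ₁, Set.ncard_smul_set, h4]
  have hfpf : ∀ (A : Set Ω) (x : G) (hx : x ∈ stabilizer G A), orderOf x = 2 → fixedBy Ω x = ∅ →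
      res A ⟨x, hx⟩ * res A ⟨x, hx⟩ = 1 ∧ ∀ a, res A ⟨x, hx⟩ a ≠ a := by
    intro A x hx hxo hx0
    refine ⟨?_, fun a ha => ?_⟩
    · rw [← map_mul, show (⟨x, hx⟩ * ⟨x, hx⟩ : stabilizer G A) = 1 from
        Subtype.ext (invol_mul_self hxo), map_one]
    · have : (a : Ω) ∈ fixedBy Ω x := congrArg Subtype.val ha
      rw [hx0] at this
      exact this
  have hpow : ∀ {A : Set Ω} {x : stabilizer G A} {k : ℕ}, res A x ^ k = 1 →
      A ⊆ fixedBy Ω ((x : G) ^ k) := by
    intro A x k h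
    rw [← map_pow, res_eq_one] at h
    exact mem_pw.1 h
  have hcomm : ∀ w : G, orderOf w = 2 → (fixedBy Ω w).Nonempty → w • Φ = Φ₁ → w • Φ₁ = Φ →
      Commute w v := by
    intro w hw hwf h1 h2
    have hwi : w⁻¹ = w := invol_inv hw
    have hvi : v⁻¹ = v := invol_inv hvo
    -- the other swap
    have hw' : orderOf (v * w * v⁻¹) = 2 := invol_conj hw v
    have hodd := hswap_odd w (v * w * v⁻¹) hw hw' hwf ((conj_fixedBy_nonempty v).2 hwf) h1 h2
      (by rw [hvi, mul_smul, mul_smul, hvH, h1, hvΦ₁])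
      (by rw [hvi, mul_smul, mul_smul, hvΦ₁, h2, hvH])
    -- the conjugate involution
    set x := w * v * w⁻¹ with hx
    have hxo : orderOf x = 2 := invol_conj hvo w
    have hxΦ : x • Φ = Φ := by rw [hx, hwi, mul_smul, mul_smul, h1, hvΦ₁, h2]
    have hxΦ₁ : x • Φ₁ = Φ₁ := by rw [hx, hwi, mul_smul, mul_smul, h2, hvH, h1]
    have hx0 := (hboth x hxΦ hxΦ₁ hxo).1
    have hprod : v * x = v * w * v⁻¹⁻¹ * w := by rw [hx, hwi, inv_inv]; group
    have key : (v * x) ^ 2 = 1 := by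
      refine hkill _ ?_ ?_
      · obtain ⟨a1, a2⟩ := hfpf Φ v (mem_stabilizer_iff.2 hvH) hvo hv0
        obtain ⟨b1, b2⟩ := hfpf Φ x (mem_stabilizer_iff.2 hxΦ) hxo hx0
        exact hpow (x := ⟨v, mem_stabilizer_iff.2 hvH⟩ * ⟨x, mem_stabilizer_iff.2 hxΦ⟩)
          (by rw [map_mul, pow_two]; exact fpf_invol_mul hcard a1 b1 a2 b2)
      · obtain ⟨a1, a2⟩ := hfpf Φ₁ v (mem_stabilizer_iff.2 hvΦ₁) hvo hv0
        obtain ⟨b1, b2⟩ := hfpf Φ₁ x (mem_stabilizer_iff.2 hxΦ₁) hxo hx0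
        exact hpow (x := ⟨v, mem_stabilizer_iff.2 hvΦ₁⟩ * ⟨x, mem_stabilizer_iff.2 hxΦ₁⟩)
          (by rw [map_mul, pow_two]; exact fpf_invol_mul hcard₁ a1 b1 a2 b2)
    rw [inv_inv] at hprod
    rw [hprod, ← orderOf_dvd_iff_pow_eq_one] at key
    rw [hvi] at hodd
    have hone : orderOf (v * w * v * w) = 1 := by
      rcases (Nat.dvd_prime Nat.prime_two).1 key with h | h
      · exact h
      · rw [h] at hodd; exact absurd hodd (by decide)
    rw [orderOf_eq_one_iff] at hone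
    show w * v = v * w
    calc w * v = (v * w * v * w) * (w * v) := by rw [hone, one_mul]
      _ = v * w * v * (w * w) * v := by group
      _ = v * w * (v * v) := by rw [invol_mul_self hw]; group
      _ = v * w := by rw [invol_mul_self hvo, mul_one]
  have huniq : ∀ w w' : G, orderOf w = 2 → orderOf w' = 2 → (fixedBy Ω w).Nonempty →
      (fixedBy Ω w').Nonempty → w • Φ = Φ₁ → w • Φ₁ = Φ → w' • Φ = Φ₁ → w' • Φ₁ = Φ → w' = w := by
    intro w w' hw hw' hwf hwf' h1 h2 h1' h2'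
    have hodd := hswap_odd w w' hw hw' hwf hwf' h1 h2 h1' h2'
    have hc : Commute v (w' * w) :=
      (hcomm w' hw' hwf' h1' h2').symm.mul_right (hcomm w hw hwf h1 h2).symm
    have key : (w' * w) ^ 2 ^ 3 = 1 := by
      have hs : (w' * w) • Φ = Φ := by rw [mul_smul, h1, h2']
      have hs₁ : (w' * w) • Φ₁ = Φ₁ := by rw [mul_smul, h2, h1']
      refine hkill _ ?_ ?_
      · obtain ⟨a1, a2⟩ := hfpf Φ v (mem_stabilizer_iff.2 hvH) hvo hv0
        refine hpow (x := ⟨w' * w, mem_stabilizer_iff.2 hs⟩) (fpf_comm hcard a1 a2 ?_)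
        rw [← map_mul, ← map_mul]
        exact congrArg _ (Subtype.ext hc.eq)
      · obtain ⟨a1, a2⟩ := hfpf Φ₁ v (mem_stabilizer_iff.2 hvΦ₁) hvo hv0
        refine hpow (x := ⟨w' * w, mem_stabilizer_iff.2 hs₁⟩) (fpf_comm hcard₁ a1 a2 ?_)
        rw [← map_mul, ← map_mul]
        exact congrArg _ (Subtype.ext hc.eq)
    have h := mul_eq_one_iff_eq_inv.1 (eq_one_of_odd_of_pow_two hodd key)
    rwa [invol_inv hw] at h
  -- the involution is isolated
  obtain ⟨w₀, hw₀, hw₀f, h₀, h₀', hw₀t⟩ := hswap t ht htΦ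
  have honly : ∀ d : G, orderOf d = 2 → fixedBy Ω d = Φ → d = t := by
    intro d hd hdΦ
    obtain ⟨w, hw, hwf, h1, h2, hwd⟩ := hswap d hd hdΦ
    obtain rfl := huniq w₀ w hw₀ hw hw₀f hwf h₀ h₀' h1 h2
    exact mul_left_cancel (mul_right_cancel (hwd.trans hw₀t.symm))
  have hiso : Cfsg.IsIsolatedInvolution t := by
    refine ⟨ht, fun h hc => honly _ (invol_conj ht h) ?_⟩
    rw [← htΦ]
    exact (hA _ _ ht (invol_conj ht h) htne ((conj_fixedBy_nonempty h).2 htne) hc).symm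
  have hO : Cfsg.pPrimeCore 2 G = ⊥ := by
    haveI := Coprime.pPrimeCore_characteristic (G := G) 2
    refine (IsSimpleGroup.eq_bot_or_eq_top_of_normal _ inferInstance).resolve_right fun h => ?_
    exact notMem_pPrimeCore ht (h ▸ Subgroup.mem_top t)
  have hcen := eq_of_zcentral_bot (zstar hiso) hO
  rcases IsSimpleGroup.eq_bot_or_eq_top_of_normal (Subgroup.center G) inferInstance with h | h
  · exact invol_ne_one ht (Subgroup.mem_bot.1 (h ▸ hcen))
  · exact hna ⟨⟨fun a b => Subgroup.mem_center_iff.1 (h ▸ Subgroup.mem_top b) a⟩⟩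

end CfsgLib.Perm.FixityFour
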