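import Cfsg.Agent.Lib.Perm.FixityFour.TwoPair
import Cfsg.Agent.Lib.Perm.FixityFour.Embedded
import Cfsg.Agent.Lib.Char.FixityTwo.SignKernel
import Cfsg.Agent.Lib.Invol.CyclicCentralizer
import Cfsg.Prelude.Def_CaseTheorems

/-!
# Simple groups of fixity four: the cases with an involution fixing a point
-/

set_option autoImplicit false
set_option linter.unusedSectionVars false

open MulAction Subgroup
open scoped Pointwise

namespace CfsgLib.Perm.FixityFour

open CfsgLib.Invol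

variable {G Ω : Type*} [Group G] [MulAction G Ω] [Finite G] [Finite Ω]

theorem sylow_two_not_cyclic [IsSimpleGroup G] (hna : ¬ IsMulCommutative G) (S : Sylow 2 G) {t : G}
    (ht : orderOf t = 2) : ¬ IsCyclic (S : Subgroup G) := by
  intro h
  obtain ⟨H, hH⟩ := exists_index_two_of_cyclic
    (even_iff_two_dvd.2 (ht ▸ orderOf_dvd_natCard t)) S h
  haveI := Subgroup.normal_of_index_eq_two hH
  rcases IsSimpleGroup.eq_bot_or_eq_top_of_normal H inferInstance with h' | h'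
  · rw [h', index_bot] at hH
    haveI : Fact (Nat.Prime 2) := ⟨Nat.prime_two⟩
    haveI := isCyclic_of_prime_card hH
    exact hna ⟨⟨fun a b => IsCyclic.commGroup.mul_comm a b⟩⟩
  · rw [h', index_top] at hH
    omega

theorem four_dvd_card_sylow [IsSimpleGroup G] (hna : ¬ IsMulCommutative G) (S : Sylow 2 G) {t : G}
    (ht : orderOf t = 2) : 4 ∣ Nat.card (S : Subgroup G) := by
  haveI : Fact (Nat.Prime 2) := ⟨Nat.prime_two⟩
  obtain ⟨k, hk⟩ := IsPGroup.iff_card.1 S.2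
  rcases Nat.lt_or_ge k 2 with hk2 | hk2
  · refine absurd ?_ (sylow_two_not_cyclic hna S ht)
    rcases (show k = 0 ∨ k = 1 by omega) with rfl | rfl
    · haveI : Subsingleton (S : Subgroup G) := (Nat.card_eq_one_iff_unique.1 (by simpa using hk)).1
      infer_instance
    · exact isCyclic_of_prime_card (p := 2) (by simpa using hk)
  · exact hk ▸ (pow_dvd_pow 2 hk2 : 2 ^ 2 ∣ 2 ^ k)

/-- Case (2) or (3). -/
def Small (S : Sylow 2 G) (f : ℕ) : Prop :=
  (f ≤ 3 ∧ ((∃ n : ℕ, Nonempty ((S : Subgroup G) ≃* DihedralGroup n)) ∨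
    Cfsg.IsQuasiDihedral (S : Subgroup G))) ∨ (f = 4 ∧ Cfsg.SectionalPRankLE 2 4 G)

theorem small_of {S : Sylow 2 G} {f k : ℕ} (hf : f ≤ 4) (hk : k ≤ f)
    (h : SectFour.Bound (S : Subgroup G) ∧ (k ≤ 3 → (∃ n : ℕ, Nonempty ((S : Subgroup G) ≃* DihedralGroup n))
      ∨ Cfsg.IsQuasiDihedral (S : Subgroup G))) : Small S f := by
  rcases Nat.lt_or_ge f 4 with h3 | h4
  · exact Or.inl ⟨by omega, h.2 (by omega)⟩
  · exact Or.inr ⟨by omega, SectFour.sectional_of_bound S h.1⟩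

theorem cases_of_invol_fix [IsSimpleGroup G] [IsPretransitive G Ω] (hna : ¬ IsMulCommutative G)
    (hbd : AtMostFour G Ω) (hfaith : ∀ g : G, (∀ ω : Ω, g • ω = ω) → g = 1) (S : Sylow 2 G) {f : ℕ}
    (hf1 : 1 ≤ f) (hf : ∀ g : G, orderOf g = 2 → (fixedBy Ω g).ncard ≤ f)
    (hf' : ∃ g : G, orderOf g = 2 ∧ (fixedBy Ω g).ncard = f) :
    (∃ H : Subgroup G, Cfsg.IsStronglyEmbedded H) ∨ Small S f := by
  classical
  haveI : Fact (Nat.Prime 2) := ⟨Nat.prime_two⟩
  obtain ⟨t₀, ht₀, ht₀f⟩ := hf'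
  have hf4 : f ≤ 4 := ht₀f ▸ hbd t₀ (invol_ne_one ht₀)
  -- the case of a moved set of `f` points
  by_cases hmov : ∃ t ∈ (S : Subgroup G), orderOf t = 2 ∧ (fixedBy Ω t).ncard = f ∧
      ∃ s ∈ (S : Subgroup G), s • fixedBy Ω t ≠ fixedBy Ω t
  · obtain ⟨t, htS, ht, htf, hs⟩ := hmov
    have M : Moved 2 (S : Subgroup G) (fixedBy Ω t) :=
      ⟨hbd, S.2, htf.trans_le hf4, ⟨t, htS, ht, rfl⟩, fun u _ hu hsub =>
        (Set.eq_of_subset_of_ncard_le hsub (htf ▸ hf u hu)).symm, hs⟩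
    exact Or.inr (small_of hf4 le_rfl (htf ▸ bound_of_moved M))
  push Not at hmov
  obtain ⟨g, hg⟩ := exists_conj_le_sylow (IsPGroup.of_card (n := 1)
    (by rw [Nat.card_zpowers, ht₀, pow_one]) : IsPGroup 2 (zpowers t₀)) S
  set t := g * t₀ * g⁻¹ with htdef
  have htS : t ∈ (S : Subgroup G) := hg t₀ (mem_zpowers t₀)
  have ht : orderOf t = 2 := invol_conj ht₀ g
  set Φ := fixedBy Ω t with hΦdef
  have htf : Φ.ncard = f := by rw [hΦdef, htdef, fixedBy_conj_ncard, ht₀f]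
  have hstab : ∀ s ∈ (S : Subgroup G), s • Φ = Φ := hmov t htS ht htf
  by_cases hA : ∃ u ∈ (S : Subgroup G), orderOf u = 2 ∧ ¬ fixedBy Ω u ⊆ Φ
  · right
    let U : Set G := {u | u ∈ (S : Subgroup G) ∧ orderOf u = 2 ∧ ¬ fixedBy Ω u ⊆ Φ}
    obtain ⟨x, ⟨hxS, hx, hxΦ⟩, hmax⟩ := Set.exists_max_image U (fun u => (fixedBy Ω u).ncard)
      (Set.toFinite _) hA
    set Φ' := fixedBy Ω x with hΦ'
    have hexact : ∀ u ∈ (S : Subgroup G), orderOf u = 2 → Φ' ⊆ fixedBy Ω u →
        fixedBy Ω u = Φ' := fun u hu huo hsub =>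
      (Set.eq_of_subset_of_ncard_le hsub (hmax u ⟨hu, huo, fun h => hxΦ (hsub.trans h)⟩)).symm
    by_cases hm : ∀ s ∈ (S : Subgroup G), s • Φ' = Φ'
    swap
    · push Not at hm
      have M : Moved 2 (S : Subgroup G) Φ' :=
        ⟨hbd, S.2, (hf x hx).trans hf4, ⟨x, hxS, hx, rfl⟩, hexact, hm⟩
      exact small_of hf4 (hf x hx) (bound_of_moved M)
    have hp := bound_of_pair (Φ := Φ) (Φ' := Φ') S.2 (htf.trans_le hf4) ((hf x hx).trans hf4)
      hstab hm fun s hs h1 h2 => by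
        by_contra hs1
        obtain ⟨k, hk⟩ := exists_pow_prime S.2 hs hs1
        have hsub : Φ ∪ Φ' ⊆ fixedBy Ω (s ^ k) :=
          (Set.union_subset h1 h2).trans (fixedBy_subset_pow s k)
        have hlt : Φ.ncard < (Φ ∪ Φ').ncard :=
          Set.ncard_lt_ncard (ssubset_of_subset_of_ne Set.subset_union_left fun h => hxΦ
            (h ▸ Set.subset_union_right))
        have := (Set.ncard_le_ncard hsub).trans (hf _ hk)
        omega
    refine small_of hf4 le_rfl ⟨hp.1, fun h3 => ?_⟩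
    have hle := hp.2 (htf.trans_le h3) ((hf x hx).trans h3)
    have hcard : Nat.card (S : Subgroup G) = 4 :=
      le_antisymm hle (Nat.le_of_dvd Nat.card_pos (four_dvd_card_sylow hna S ht))
    haveI : IsKleinFour (S : Subgroup G) :=
      ⟨hcard, (not_isCyclic_iff_exponent_eq_prime Nat.prime_two (by rw [hcard]; norm_num)).1
        (sylow_two_not_cyclic hna S ht)⟩
    exact Or.inl ⟨2, IsKleinFour.nonempty_mulEquiv⟩
  push Not at hA
  left
  -- semiregular off `Φ`
  have hsemi : ∀ s ∈ (S : Subgroup G), ∀ a ∈ Φᶜ, s • a = a → s = 1 := by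
    intro s hs a ha hsa
    by_contra hs1
    obtain ⟨k, hk⟩ := exists_pow_prime S.2 hs hs1
    exact ha (hA _ (pow_mem hs k) hk (fixedBy_subset_pow s k hsa))
  have hdvd : 4 ∣ Φᶜ.ncard := (four_dvd_card_sylow hna S ht).trans
    (card_dvd_of_semiregular (fun s hs a ha h => ha (by
      rw [← hstab s hs] at h
      exact Set.smul_mem_smul_set_iff.1 h)) hsemi)
  haveI : Fintype Ω := Fintype.ofFinite Ω
  have hsign : ∀ u ∈ (S : Subgroup G), orderOf u = 2 →
      fixedBy Ω u = Φ ∨ (f = 4 ∧ fixedBy Ω u = ∅) := by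
    intro u hu huo
    have hsub : fixedBy Ω u ⊆ Φ := hA u hu huo
    have hs : Equiv.Perm.sign (MulAction.toPermHom G Ω u) = 1 := by
      rcases (Equiv.Perm.sign.comp (MulAction.toPermHom G Ω)).normal_ker.eq_bot_or_eq_top with h | h
      · refine absurd ⟨⟨fun a b => (MonoidHom.ker_eq_bot_iff _).1 h ?_⟩⟩ hna
        rw [map_mul, map_mul, mul_comm]
      · exact (MonoidHom.mem_ker (f := Equiv.Perm.sign.comp (MulAction.toPermHom G Ω))).1
          (by rw [h]; trivial)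
    rw [CfsgLib.Char.FixityTwo.sign_of_period (MulAction.toPermHom G Ω u) (d := 2) even_two two_pos
      (by rw [← map_pow, ← huo, pow_orderOf_eq_one, map_one])
      (fun a i ha hi hi' => by rw [show i = 1 by omega, pow_one]; exact ha) rfl,
      neg_one_pow_eq_one_iff_even (by decide)] at hs
    have hc : Nat.card {a // MulAction.toPermHom G Ω u a ≠ a} = (fixedBy Ω u)ᶜ.ncard := by
      rw [← Nat.card_coe_set_eq]
      rfl
    rw [hc] at hs
    have h1 := Set.ncard_add_ncard_compl (fixedBy Ω u)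
    have h2 := Set.ncard_add_ncard_compl Φ
    have h3 := Set.ncard_le_ncard hsub
    have hmod : Nat.card Ω ≡ (fixedBy Ω u).ncard [MOD 2] := ncard_fixedBy_modEq huo
    have hmod' : Nat.card Ω ≡ Φ.ncard [MOD 2] := ncard_fixedBy_modEq ht
    unfold Nat.ModEq at hmod hmod'
    rcases Nat.eq_zero_or_pos (fixedBy Ω u).ncard with h0 | h0
    · rcases eq_or_ne f 4 with h4 | h4
      · exact Or.inr ⟨h4, (Set.ncard_eq_zero).1 h0⟩
      · exfalso
        obtain ⟨m, hm⟩ := hdvd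
        obtain ⟨l, hl⟩ := hs
        omega
    · refine Or.inl (Set.eq_of_subset_of_ncard_le hsub ?_)
      obtain ⟨m, hm⟩ := hdvd
      obtain ⟨l, hl⟩ := hs
      omega
  refine (Exact.mk (S := S) (Φ := Φ) hbd hfaith ((Set.ncard_pos).1 (by omega)) (by omega)
    ⟨t, htS, ht, rfl⟩ hstab (fun u hu huo hne => ?_) fun u hu huo => ?_).stronglyEmbedded hna
  · rcases hsign u hu huo with h | ⟨-, h⟩
    · exact h
    · exact absurd (h ▸ hne) Set.not_nonempty_empty
  · rcases hsign u hu huo with h | ⟨h4, h⟩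
    · exact Or.inl h.ge
    · refine Or.inr ⟨htf.trans h4, fun a _ ha => ?_⟩
      exact Set.notMem_empty a (h ▸ (ha : a ∈ fixedBy Ω u))

end CfsgLib.Perm.FixityFour
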