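import Mathlib.GroupTheory.GroupAction.Quotient
import Mathlib.GroupTheory.GroupAction.Pointwise
import Mathlib.GroupTheory.GroupAction.FixingSubgroup
import Mathlib.GroupTheory.Sylow
import Mathlib.Data.Set.Card
import Mathlib.Algebra.Group.Action.Pointwise.Set.Basic
import Mathlib.Algebra.Group.Pointwise.Set.Card
import Mathlib.GroupTheory.GroupAction.FixedPoints
import Mathlib.Data.Finite.Perm

/-!
# Groups in which non-identity elements fix at most four points: basic facts
-/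

set_option autoImplicit false

open MulAction Subgroup
open scoped Pointwise

namespace CfsgLib.Perm.FixityFour

variable {G Ω : Type*} [Group G] [MulAction G Ω]

/-- Non-identity elements fix at most four points. -/
def AtMostFour (G Ω : Type*) [Group G] [MulAction G Ω] : Prop :=
  ∀ g : G, g ≠ 1 → (fixedBy Ω g).ncard ≤ 4

theorem AtMostFour.eq_one [Finite Ω] (h : AtMostFour G Ω) {g : G} {A : Set Ω} (hA : 4 < A.ncard)
    (hf : A ⊆ fixedBy Ω g) : g = 1 := by
  by_contra hg
  exact absurd ((Set.ncard_le_ncard hf).trans (h g hg)) (not_le.2 hA)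

/-- The pointwise stabilizer of a set. -/
def pw (G : Type*) [Group G] {Ω : Type*} [MulAction G Ω] (Φ : Set Ω) : Subgroup G :=
  fixingSubgroup G Φ

theorem mem_pw {Φ : Set Ω} {g : G} : g ∈ pw G Φ ↔ Φ ⊆ fixedBy Ω g :=
  mem_fixingSubgroup_iff G

theorem fixedBy_subset_pow (g : G) (k : ℕ) : fixedBy Ω g ⊆ fixedBy Ω (g ^ k) := fun ω hω => by
  show g ^ k • ω = ω
  induction k with
  | zero => rw [pow_zero, one_smul]
  | succ k ih => rw [pow_succ, mul_smul, hω, ih]

theorem smul_fixedBy_eq (g x : G) : g • fixedBy Ω x = fixedBy Ω (g * x * g⁻¹) :=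
  smul_fixedBy Ω x g

theorem fixedBy_conj_ncard (g x : G) :
    (fixedBy Ω (g * x * g⁻¹)).ncard = (fixedBy Ω x).ncard := by
  rw [← smul_fixedBy_eq, Set.ncard_smul_set]

theorem smul_fixedBy_of_commute {g x : G} (h : Commute g x) : g • fixedBy Ω x = fixedBy Ω x := by
  rw [smul_fixedBy_eq, h.eq, mul_inv_cancel_right]

/-- A non-identity element of a `p`-group has a power of order `p`. -/
theorem exists_pow_prime {p : ℕ} [hp : Fact p.Prime] {S : Subgroup G} (hS : IsPGroup p S) {x : G}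
    (hx : x ∈ S) (h1 : x ≠ 1) : ∃ k : ℕ, orderOf (x ^ k) = p := by
  obtain ⟨m, hm⟩ := hS ⟨x, hx⟩
  have hm' : x ^ p ^ m = 1 := congrArg Subtype.val hm
  obtain ⟨j, hj, hjo⟩ := (Nat.dvd_prime_pow hp.out).1 (orderOf_dvd_of_pow_eq_one hm')
  rcases Nat.eq_zero_or_pos j with rfl | hj0
  · exact absurd (orderOf_eq_one_iff.1 (by simpa using hjo)) h1
  refine ⟨p ^ (j - 1), ?_⟩
  rw [orderOf_pow' x (pow_ne_zero _ hp.out.ne_zero), hjo, Nat.gcd_eq_right
    (pow_dvd_pow p (Nat.sub_le j 1)), Nat.pow_div (Nat.sub_le j 1) hp.out.pos,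
    show j - (j - 1) = 1 by omega, pow_one]

theorem ne_one_of_orderOf_eq_prime {p : ℕ} (hp : p.Prime) {x : G} (hx : orderOf x = p) : x ≠ 1 :=
  fun e => hp.ne_one (by rw [← hx, e, orderOf_one])

/-- If the elements of order `p` fixing `Φ` pointwise have fixed point set `Φ`, so have all
non-identity elements of a `p`-subgroup fixing it. -/
theorem fixedBy_eq_of_exact {p : ℕ} [hp : Fact p.Prime] {S : Subgroup G} (hS : IsPGroup p S)
    {Φ : Set Ω} (hex : ∀ u ∈ S, orderOf u = p → Φ ⊆ fixedBy Ω u → fixedBy Ω u = Φ) {x : G}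
    (hx : x ∈ S) (h1 : x ≠ 1) (hΦ : Φ ⊆ fixedBy Ω x) : fixedBy Ω x = Φ := by
  obtain ⟨k, hk⟩ := exists_pow_prime hS hx h1
  refine subset_antisymm ?_ hΦ
  rw [← hex _ (pow_mem hx k) hk (hΦ.trans (fixedBy_subset_pow x k))]
  exact fixedBy_subset_pow x k

/-- An element of a finite order group fixes as many points as there are, modulo its prime order. -/
theorem ncard_fixedBy_modEq [Finite Ω] {p : ℕ} [hp : Fact p.Prime] {u : G} (hu : orderOf u = p) :
    Nat.card Ω ≡ (fixedBy Ω u).ncard [MOD p] := by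
  have hP : IsPGroup p (zpowers u) := IsPGroup.of_card (n := 1) (by rw [Nat.card_zpowers, hu, pow_one])
  have h := hP.card_modEq_card_fixedPoints Ω
  have e : MulAction.fixedPoints (zpowers u) Ω = fixedBy Ω u := by
    ext ω
    refine ⟨fun hω => hω ⟨u, mem_zpowers u⟩, fun hω g => ?_⟩
    obtain ⟨i, hi⟩ := mem_zpowers_iff.1 g.2
    show (g : G) • ω = ω
    rw [← hi]
    exact (stabilizer G ω).zpow_mem hω i
  rwa [e, Nat.card_coe_set_eq] at h

/-- A semiregular group has order dividing the size of the set. -/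
theorem card_dvd_of_semiregular [Finite Ω] {D : Subgroup G} {A : Set Ω}
    (hA : ∀ d ∈ D, ∀ a ∈ A, d • a ∈ A) (hfree : ∀ d ∈ D, ∀ a ∈ A, d • a = a → d = 1) :
    Nat.card D ∣ A.ncard := by
  classical
  letI : MulAction D A :=
    { smul := fun d a => ⟨(d : G) • (a : Ω), hA d d.2 a a.2⟩
      one_smul := fun a => Subtype.ext (one_smul G (a : Ω))
      mul_smul := fun d e a => Subtype.ext (mul_smul (d : G) (e : G) (a : Ω)) }
  have hst : ∀ a : A, stabilizer D a = ⊥ := fun a => eq_bot_iff.2 fun d hd =>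
    Subtype.ext (hfree d d.2 a a.2 (congrArg Subtype.val hd))
  rw [← Nat.card_coe_set_eq, Nat.card_congr (selfEquivOrbitsQuotientProd hst), Nat.card_prod]
  exact dvd_mul_left _ _

/-- The action of the setwise stabilizer on the set. -/
def res (Φ : Set Ω) : stabilizer G Φ →* Equiv.Perm Φ :=
  MonoidHom.mk' (fun g => (MulAction.toPerm (g : G)).subtypePerm fun x => by
      show (g : G) • x ∈ Φ ↔ x ∈ Φ
      have h := Set.smul_mem_smul_set_iff (a := (g : G)) (s := Φ) (x := x)
      rwa [mem_stabilizer_iff.1 g.2] at h)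
    fun g g' => Equiv.ext fun a => Subtype.ext (mul_smul (g : G) (g' : G) (a : Ω))

@[simp] theorem res_apply (Φ : Set Ω) (g : stabilizer G Φ) (a : Φ) :
    ((res Φ g a : Φ) : Ω) = (g : G) • (a : Ω) := rfl

theorem res_eq_one {Φ : Set Ω} {g : stabilizer G Φ} : res Φ g = 1 ↔ (g : G) ∈ pw G Φ := by
  rw [mem_pw]
  refine ⟨fun h a ha => ?_, fun h => Equiv.ext fun a => Subtype.ext (h a.2)⟩
  show (g : G) • a = a
  rw [← res_apply Φ g ⟨a, ha⟩, h]
  rfl

theorem pw_le_stabilizer [Finite Ω] (Φ : Set Ω) : pw G Φ ≤ stabilizer G Φ := fun g hg => by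
  refine mem_stabilizer_iff.2 (Set.eq_of_subset_of_ncard_le ?_ (Set.ncard_smul_set g Φ).ge)
  rintro _ ⟨a, ha, rfl⟩
  show g • a ∈ Φ
  rw [show g • a = a from mem_pw.1 hg ha]
  exact ha

/-- A subgroup of the setwise stabilizer modulo the pointwise one. -/
theorem relIndex_pw_dvd [Finite Ω] {Φ : Set Ω} {U : Subgroup G} (hU : U ≤ stabilizer G Φ) :
    (pw G Φ).relIndex U ∣ Φ.ncard.factorial := by
  classical
  have : Fintype Φ := Fintype.ofFinite _
  let f : U →* Equiv.Perm Φ := (res Φ).comp (Subgroup.inclusion hU)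
  have e : (pw G Φ).subgroupOf U = f.ker := by
    ext u
    rw [MonoidHom.mem_ker, mem_subgroupOf]
    exact (res_eq_one (g := Subgroup.inclusion hU u)).symm
  rw [relIndex, e, index_ker, ← Nat.card_coe_set_eq Φ, ← Nat.card_perm]
  exact card_subgroup_dvd_card _

theorem pow_le_eight {k : ℕ} (h : 2 ^ k ∣ 24) : 2 ^ k ≤ 8 := by
  rcases Nat.lt_or_ge 3 k with hk | hk
  · exact absurd ((pow_dvd_pow 2 hk).trans h) (by norm_num)
  · exact Nat.pow_le_pow_right two_pos hk

theorem pow_le_two {k : ℕ} (h : 2 ^ k ∣ 6) : 2 ^ k ≤ 2 := by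
  rcases Nat.lt_or_ge 1 k with hk | hk
  · exact absurd ((pow_dvd_pow 2 hk).trans h) (by norm_num)
  · exact le_of_le_of_eq (Nat.pow_le_pow_right two_pos hk) (pow_one 2)

theorem pow_three_le_three {k : ℕ} (h : 3 ^ k ∣ 24) : 3 ^ k ≤ 3 := by
  rcases Nat.lt_or_ge 1 k with hk | hk
  · exact absurd ((pow_dvd_pow 3 hk).trans h) (by norm_num)
  · exact le_of_le_of_eq (Nat.pow_le_pow_right (by norm_num) hk) (pow_one 3)

theorem card_eq_relIndex_mul {A B : Subgroup G} (h : A ≤ B) :
    Nat.card B = A.relIndex B * Nat.card A := by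
  rw [← Nat.card_congr (subgroupOfEquivOfLe h).toEquiv]
  exact ((A.subgroupOf B).index_mul_card).symm

end CfsgLib.Perm.FixityFour
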