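import Cfsg.Agent.Lib.Perm.FixityFour.Basic
import Mathlib.GroupTheory.Nilpotent

/-!
# A subgroup of prime power order and a fixed point set that it moves
-/

set_option autoImplicit false

open MulAction Subgroup
open scoped Pointwise

namespace CfsgLib.Perm.FixityFour

variable {G Ω : Type*} [Group G] [MulAction G Ω]

theorem conj_mem_pw {Φ : Set Ω} {g x : G} (hg : g • Φ = Φ) (hx : x ∈ pw G Φ) :
    g * x * g⁻¹ ∈ pw G Φ := by
  rw [mem_pw, ← smul_fixedBy_eq, ← hg]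
  exact Set.smul_set_mono (mem_pw.1 hx)

theorem conj_mem_pw_smul {Φ : Set Ω} {g x : G} (hx : x ∈ pw G Φ) : g * x * g⁻¹ ∈ pw G (g • Φ) := by
  rw [mem_pw, ← smul_fixedBy_eq]
  exact Set.smul_set_mono (mem_pw.1 hx)

theorem exists_normalizing [Finite G] {p : ℕ} [Fact p.Prime] {S U : Subgroup G} (hS : IsPGroup p S)
    (hU : U ≤ S) (hne : ∃ s ∈ S, s ∉ U) : ∃ s ∈ S, s ∉ U ∧ s ∈ normalizer (U : Set G) := by
  haveI := hS.isNilpotent
  have hlt : U.subgroupOf S < ⊤ := lt_of_le_of_ne le_top fun e => by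
    obtain ⟨s, hs, hsU⟩ := hne
    exact hsU (mem_subgroupOf.1 (e ▸ mem_top (⟨s, hs⟩ : S)))
  obtain ⟨⟨g, hg⟩, hgN, hgU⟩ :=
    SetLike.exists_of_lt (Group.normalizerCondition_of_isNilpotent _ hlt)
  refine ⟨g, hg, fun h => hgU (mem_subgroupOf.2 h),
    mem_normalizer_iff.2 fun x => ⟨fun hx => ?_, fun hx => ?_⟩⟩
  · exact mem_subgroupOf.1 ((mem_normalizer_iff.1 hgN ⟨x, hU hx⟩).1 (mem_subgroupOf.2 hx))
  · have hxS : x ∈ S := by
      have := mul_mem (mul_mem (inv_mem hg) (hU hx)) hg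
      simpa [mul_assoc] using this
    exact mem_subgroupOf.1 ((mem_normalizer_iff.1 hgN ⟨x, hxS⟩).2 (mem_subgroupOf.2 hx))

/-- A `p`-subgroup `S`, a set `Φ` which is the fixed point set of some of its elements of order `p`
and of all those fixing it pointwise, and which `S` moves. -/
structure Moved (p : ℕ) (S : Subgroup G) (Φ : Set Ω) : Prop where
  bound : AtMostFour G Ω
  group : IsPGroup p S
  small : Φ.ncard ≤ 4
  ex : ∃ t ∈ S, orderOf t = p ∧ fixedBy Ω t = Φ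
  exact_fix : ∀ u ∈ S, orderOf u = p → Φ ⊆ fixedBy Ω u → fixedBy Ω u = Φ
  moved : ∃ s ∈ S, s • Φ ≠ Φ

/-- The setwise stabilizer in `S`. -/
def setStab (S : Subgroup G) (Φ : Set Ω) : Subgroup G := S ⊓ stabilizer G Φ

/-- The pointwise stabilizer in `S`. -/
def ptStab (S : Subgroup G) (Φ : Set Ω) : Subgroup G := S ⊓ pw G Φ

theorem mem_setStab {S : Subgroup G} {Φ : Set Ω} {x : G} :
    x ∈ setStab S Φ ↔ x ∈ S ∧ x • Φ = Φ := Iff.rfl

theorem ptStab_le [Finite Ω] (S : Subgroup G) (Φ : Set Ω) : ptStab S Φ ≤ setStab S Φ :=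
  inf_le_inf_left S (pw_le_stabilizer Φ)

variable {p : ℕ} [hp : Fact p.Prime] {S : Subgroup G} {Φ : Set Ω}

theorem Moved.fix_eq (M : Moved p S Φ) {x : G} (hx : x ∈ ptStab S Φ) (h1 : x ≠ 1) :
    fixedBy Ω x = Φ :=
  fixedBy_eq_of_exact M.group M.exact_fix hx.1 h1 (mem_pw.1 hx.2)

/-- The companion of the set under a normalizing element. -/
structure Companion (S : Subgroup G) (Φ Ψ : Set Ω) : Prop where
  ne : Ψ ≠ Φ
  card : Ψ.ncard = Φ.ncard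
  stab : ∀ u ∈ S, u • Ψ = Ψ ↔ u • Φ = Φ
  triv : ∀ x ∈ S, Φ ⊆ fixedBy Ω x → Ψ ⊆ fixedBy Ω x → x = 1
  card_pt : Nat.card (ptStab S Ψ) = Nat.card (ptStab S Φ)
  conj : ∃ s ∈ S, ∀ x : G, x ∈ ptStab S Ψ ↔ s⁻¹ * x * s ∈ ptStab S Φ

theorem Moved.exists_companion [Finite G] (M : Moved p S Φ) :
    ∃ Ψ : Set Ω, Companion S Φ Ψ ∧ Moved p S Ψ := by
  obtain ⟨s₀, hs₀, hs₀Φ⟩ := M.moved
  obtain ⟨s, hs, hsU, hsN⟩ := exists_normalizing M.group (U := setStab S Φ) inf_le_left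
    ⟨s₀, hs₀, fun h => hs₀Φ h.2⟩
  have hne : s • Φ ≠ Φ := fun h => hsU ⟨hs, h⟩
  have hiff : ∀ x : G, x ∈ ptStab S (s • Φ) ↔ s⁻¹ * x * s ∈ ptStab S Φ := by
    intro x
    refine ⟨fun hx => mem_inf.2 ⟨mul_mem (mul_mem (inv_mem hs) hx.1) hs, ?_⟩, fun hx => mem_inf.2 ⟨?_, ?_⟩⟩
    · have := conj_mem_pw_smul (g := s⁻¹) hx.2
      rwa [inv_smul_smul, inv_inv] at this
    · have := mul_mem (mul_mem hs hx.1) (inv_mem hs)
      simpa [mul_assoc] using this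
    · have := conj_mem_pw_smul (g := s) hx.2
      simpa [mul_assoc] using this
  refine ⟨s • Φ, ⟨hne, Set.ncard_smul_set s Φ, fun u hu => ?_, fun x hx h1 h2 => ?_, ?_, s, hs, hiff⟩,
    M.bound, M.group, (Set.ncard_smul_set s Φ).le.trans M.small, ?_, ?_, s⁻¹, inv_mem hs, ?_⟩
  · have h : s⁻¹ * u * s ∈ setStab S Φ ↔ u ∈ setStab S Φ := by
      have := (mem_normalizer_iff.1 hsN) (s⁻¹ * u * s)
      simpa [mul_assoc] using this
    constructor
    · intro h1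
      refine (h.1 (mem_inf.2 ⟨mul_mem (mul_mem (inv_mem hs) hu) hs, ?_⟩)).2
      show (s⁻¹ * u * s) • Φ = Φ
      rw [mul_smul, mul_smul, h1, inv_smul_smul]
    · intro h1
      have h2 : (s⁻¹ * u * s) • Φ = Φ := (h.2 ⟨hu, h1⟩).2
      rw [mul_smul, mul_smul, inv_smul_eq_iff] at h2
      exact h2
  · by_contra hx1
    have h3 := M.fix_eq ⟨hx, mem_pw.2 h1⟩ hx1
    have h4 : fixedBy Ω (s⁻¹ * x * s) = Φ :=
      M.fix_eq ((hiff x).1 ⟨hx, mem_pw.2 h2⟩) fun e => hx1 (by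
        have : x = s * (s⁻¹ * x * s) * s⁻¹ := by group
        rw [this, e, mul_one, mul_inv_cancel])
    refine hne ?_
    rw [← congrArg (s • ·) h4]
    simp only [smul_fixedBy_eq]
    rw [show s * (s⁻¹ * x * s) * s⁻¹ = x by group, h3]
  · refine Nat.card_congr ((MulAut.conj s⁻¹).toEquiv.subtypeEquiv fun x => ?_)
    rw [hiff]
    show _ ↔ s⁻¹ * x * s⁻¹⁻¹ ∈ _
    rw [inv_inv]
  · obtain ⟨t, ht, hto, htΦ⟩ := M.ex
    refine ⟨s * t * s⁻¹, mul_mem (mul_mem hs ht) (inv_mem hs), ?_, ?_⟩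
    · rw [← hto]
      exact orderOf_injective (MulAut.conj s).toMonoidHom (MulAut.conj s).injective t
    · rw [← smul_fixedBy_eq, htΦ]
  · intro u hu huo hsub
    have h1 := M.exact_fix (s⁻¹ * u * s) (mul_mem (mul_mem (inv_mem hs) hu) hs)
      (by
        rw [← huo]
        have := orderOf_injective (MulAut.conj s⁻¹).toMonoidHom (MulAut.conj s⁻¹).injective u
        simpa using this)
      (mem_pw.1 ((hiff u).1 ⟨hu, mem_pw.2 hsub⟩).2)
    rw [← h1, smul_fixedBy_eq]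
    congr 1
    group
  · rw [inv_smul_smul]
    exact hne.symm

theorem Companion.mem_setStab_iff {Ψ : Set Ω} (C : Companion S Φ Ψ) {u : G} :
    u ∈ setStab S Ψ ↔ u ∈ setStab S Φ :=
  ⟨fun h => ⟨h.1, (C.stab u h.1).1 h.2⟩, fun h => ⟨h.1, (C.stab u h.1).2 h.2⟩⟩

theorem Companion.ptStab_le' [Finite Ω] {Ψ : Set Ω} (C : Companion S Φ Ψ) :
    ptStab S Ψ ≤ setStab S Φ := fun _ h => C.mem_setStab_iff.1 (ptStab_le S Ψ h)

theorem Companion.commute [Finite Ω] {Ψ : Set Ω} (C : Companion S Φ Ψ) {d e : G}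
    (hd : d ∈ ptStab S Φ) (he : e ∈ ptStab S Ψ) : Commute d e := by
  have hdΨ : d • Ψ = Ψ := (C.mem_setStab_iff.2 (ptStab_le S Φ hd)).2
  have heΦ : e • Φ = Φ := (C.ptStab_le' he).2
  have h : d * e * d⁻¹ * e⁻¹ = 1 := by
    refine C.triv _ (mul_mem (mul_mem (mul_mem hd.1 he.1) (inv_mem hd.1)) (inv_mem he.1))
      (mem_pw.1 ?_) (mem_pw.1 ?_)
    · rw [show d * e * d⁻¹ * e⁻¹ = d * (e * d⁻¹ * e⁻¹) by group]
      exact mul_mem hd.2 (conj_mem_pw heΦ (inv_mem hd.2))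
    · exact mul_mem (conj_mem_pw hdΨ he.2) (inv_mem he.2)
  show d * e = e * d
  calc d * e = (d * e * d⁻¹ * e⁻¹) * (e * d) := by group
    _ = e * d := by rw [h, one_mul]

theorem Companion.mul_injective {Ψ : Set Ω} (C : Companion S Φ Ψ) :
    Function.Injective fun x : ptStab S Φ × ptStab S Ψ => (x.1 : G) * x.2 := by
  rintro ⟨⟨d, hd⟩, e, he⟩ ⟨⟨d', hd'⟩, e', he'⟩ h
  have h1 : d'⁻¹ * d = e' * e⁻¹ := by
    simp only at h
    rw [eq_mul_inv_iff_mul_eq, mul_assoc, h, inv_mul_cancel_left]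
  have h2 : d'⁻¹ * d = 1 := C.triv _ (mul_mem (inv_mem hd'.1) hd.1)
    (mem_pw.1 (mul_mem (inv_mem hd'.2) hd.2)) (mem_pw.1 (h1 ▸ mul_mem he'.2 (inv_mem he.2)))
  have e1 : d' = d := inv_mul_eq_one.1 h2
  subst e1
  simp only [mul_right_inj] at h
  subst h
  rfl

theorem Companion.sq_card_le [Finite G] [Finite Ω] {Ψ : Set Ω} (C : Companion S Φ Ψ) :
    Nat.card (ptStab S Φ) * Nat.card (ptStab S Φ) ≤ Nat.card (setStab S Φ) := by
  refine le_of_eq_of_le ?_ (Nat.card_le_card_of_injective (fun x : ptStab S Φ × ptStab S Ψ =>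
    (⟨(x.1 : G) * x.2, mul_mem (ptStab_le S Φ x.1.2) (C.ptStab_le' x.2.2)⟩ : setStab S Φ))
    fun x y h => C.mul_injective (congrArg Subtype.val h))
  rw [Nat.card_prod, C.card_pt]

theorem Moved.card_dvd [Finite Ω] (M : Moved p S Φ) {Ψ : Set Ω} (C : Companion S Φ Ψ) :
    Nat.card (ptStab S Φ) ∣ (Ψ \ Φ).ncard ∧ (Ψ \ Φ).Nonempty := by
  refine ⟨card_dvd_of_semiregular (fun d hd a ha => ?_) (fun d hd a ha hda => ?_), ?_⟩
  · have h1 : d • Ψ = Ψ := (C.mem_setStab_iff.2 (ptStab_le S Φ hd)).2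
    have h2 : d • Φ = Φ := (ptStab_le S Φ hd).2
    refine ⟨?_, fun h => ha.2 ?_⟩
    · rw [← h1]
      exact Set.smul_mem_smul_set ha.1
    · rw [← h2] at h
      exact Set.smul_mem_smul_set_iff.1 h
  · by_contra hd1
    exact ha.2 (M.fix_eq hd hd1 ▸ hda)
  · rw [Set.sdiff_nonempty]
    exact fun h => C.ne (Set.eq_of_subset_of_ncard_le h C.card.ge)

theorem Moved.one_lt_card [Finite G] (M : Moved p S Φ) : 1 < Nat.card (ptStab S Φ) := by
  obtain ⟨t, ht, hto, htΦ⟩ := M.ex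
  rw [Subgroup.one_lt_card_iff_ne_bot]
  intro h
  have : t ∈ ptStab S Φ := ⟨ht, mem_pw.2 htΦ.ge⟩
  rw [h, mem_bot] at this
  exact ne_one_of_orderOf_eq_prime hp.out hto this

theorem relIndex_ptStab_dvd [Finite Ω] (S : Subgroup G) (Φ : Set Ω) :
    (ptStab S Φ).relIndex (setStab S Φ) ∣ Φ.ncard.factorial := by
  have e : ptStab S Φ ⊓ setStab S Φ = pw G Φ ⊓ setStab S Φ := by
    ext x
    exact ⟨fun h => ⟨h.1.2, h.2⟩, fun h => ⟨⟨h.2.1, h.1⟩, h.2⟩⟩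
  rw [← inf_relIndex_right, e, inf_relIndex_right]
  exact relIndex_pw_dvd inf_le_right

end CfsgLib.Perm.FixityFour
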