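import Cfsg.Agent.Lib.Perm.FixityFour.Basic
import Cfsg.Agent.Lib.Invol.TransferPower
import Cfsg.Agent.Lib.PGroup.MaxClassSeries
import Cfsg.Agent.Lib.Coprime.Solvable

/-!
# A Sylow 3-subgroup in which the conjugates of an element have centralizers of order nine
-/

set_option autoImplicit false
set_option linter.unusedSectionVars false
set_option linter.style.haveILetI false

open MulAction Subgroup
open scoped Pointwise

namespace CfsgLib.Perm.FixityFour

variable {G : Type*} [Group G] [Finite G]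

/-- A simple group has no character of a Sylow subgroup constant and non-trivial on a class. -/
theorem false_of_constant [IsSimpleGroup G] (hna : ¬ IsMulCommutative G) (Q : Subgroup G)
    (hdvd : ¬ 3 ∣ Q.index) (t : Q) (hto : orderOf t = 3) {A : Type*} [CommGroup A]
    (θ : Q →* A) (hne : θ t ≠ 1)
    (hconst : ∀ y : Q, IsConj (t : G) (y : G) → θ y = θ t) : False := by
  haveI : Fact (Nat.Prime 3) := ⟨Nat.prime_three⟩
  have ht3 : (t : G) ^ 3 = 1 := by
    have h := pow_orderOf_eq_one (t : G)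
    rwa [Subgroup.orderOf_coe, hto] at h
  have key : ∀ (k : ℕ) (g₀ : G) (hk : g₀⁻¹ * (t : G) ^ k * g₀ ∈ Q),
      θ ⟨g₀⁻¹ * (t : G) ^ k * g₀, hk⟩ = θ ⟨t, t.2⟩ ^ k := by
    intro k g₀ hk
    by_cases h3 : k % 3 = 0
    · have e1 : (t : G) ^ k = 1 := by rw [← Nat.div_add_mod k 3, h3, add_zero, pow_mul, ht3, one_pow]
      rw [← map_pow]
      exact congrArg θ (Subtype.ext (by simp [e1]))
    · have e1 : ((t : G) ^ k) ^ k = (t : G) := by
        rw [← pow_mul]
        conv_rhs => rw [← pow_one (t : G)]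
        rw [pow_eq_pow_iff_modEq, Subgroup.orderOf_coe, hto]
        unfold Nat.ModEq
        rcases (show k % 3 = 1 ∨ k % 3 = 2 by omega) with h | h <;> rw [Nat.mul_mod, h]
      set y : Q := ⟨_, hk⟩ ^ k with hy
      have hyv : (y : G) = g₀⁻¹ * (t : G) * g₀ := by
        rw [hy, SubmonoidClass.coe_pow]
        have := conj_pow (i := k) (a := g₀⁻¹) (b := (t : G) ^ k)
        rw [inv_inv] at this
        rw [this, e1]
      have e2 : y ^ k = ⟨_, hk⟩ := Subtype.ext (by
        rw [SubmonoidClass.coe_pow, hyv]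
        have := conj_pow (i := k) (a := g₀⁻¹) (b := (t : G))
        rw [inv_inv] at this
        exact this)
      rw [← e2, map_pow, hconst y (isConj_iff.2 ⟨g₀⁻¹, by rw [hyv, inv_inv]⟩)]
  have hV := CfsgLib.Invol.transfer_eq_pow_index θ (t : G) t.2 key
  have hperf : commutator G = ⊤ := by
    refine (IsSimpleGroup.eq_bot_or_eq_top_of_normal _ inferInstance).resolve_left fun h => hna ?_
    refine ⟨⟨fun a b => commutatorElement_eq_one_iff_mul_comm.1 ?_⟩⟩
    rw [← mem_bot, ← h, _root_.commutator_def]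
    exact commutator_mem_commutator (mem_top a) (mem_top b)
  have h1 : MonoidHom.transfer θ (t : G) = 1 :=
    MonoidHom.mem_ker.1 (Abelianization.commutator_subset_ker (MonoidHom.transfer θ)
      (hperf ▸ mem_top _ : (t : G) ∈ commutator G))
  rw [hV] at h1
  have ht3' : θ t ^ 3 = 1 := by
    rw [← map_pow, show t ^ 3 = 1 from Subtype.ext ht3, map_one]
  exact hdvd (orderOf_eq_prime ht3' hne ▸ orderOf_dvd_of_pow_eq_one h1)

/-- The number of fixed cosets of `t`. -/
theorem card_fixed_cosets (H : Subgroup G) (t : G) :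
    (fixedBy (G ⧸ H) t).ncard * Nat.card H =
      {y : H | IsConj t (y : G)}.ncard * Nat.card (centralizer ({t} : Set G)) := by
  classical
  set X : Set G := {x | x⁻¹ * t * x ∈ H} with hX
  have hmem : ∀ x : G, (x : G ⧸ H) ∈ fixedBy (G ⧸ H) t ↔ x ∈ X := by
    intro x
    show t • (x : G ⧸ H) = (x : G ⧸ H) ↔ x⁻¹ * t * x ∈ H
    rw [MulAction.Quotient.smul_coe, eq_comm, QuotientGroup.eq, smul_eq_mul, mul_assoc]
  have hX1 : QuotientGroup.mk ⁻¹' fixedBy (G ⧸ H) t = X := Set.ext hmem
  have e1 : X.ncard = Nat.card H * (fixedBy (G ⧸ H) t).ncard := by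
    rw [← hX1, ← Nat.card_coe_set_eq,
      Nat.card_congr (QuotientGroup.preimageMkEquivSubgroupProdSet H _), Nat.card_prod,
      Nat.card_coe_set_eq]
  have hc : ∀ y : {y : H | IsConj t (y : G)}, ∃ c : G, c⁻¹ * t * c = ((y : H) : G) := fun y => by
    obtain ⟨c, hc⟩ := isConj_iff.1 y.2
    exact ⟨c⁻¹, by rw [inv_inv, hc]⟩
  choose c hc using hc
  let f : centralizer ({t} : Set G) × {y : H | IsConj t (y : G)} → X := fun p =>
    ⟨(p.1 : G) * c p.2, by
      have e : ((p.1 : G) * c p.2)⁻¹ * t * ((p.1 : G) * c p.2) = ((p.2 : H) : G) := by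
        rw [← hc p.2, mul_inv_rev, mul_assoc _ t, ← mul_assoc t,
          ← mem_centralizer_singleton_iff.1 p.1.2]
        group
      show _ ∈ H
      rw [e]
      exact (p.2 : H).2⟩
  have hf : Function.Bijective f := by
    constructor
    · rintro ⟨⟨u, hu⟩, y⟩ ⟨⟨u', hu'⟩, y'⟩ h
      have h' : u * c y = u' * c y' := congrArg Subtype.val h
      have hy : y = y' := by
        refine Subtype.ext (Subtype.ext ?_)
        rw [← hc y, ← hc y']
        calc (c y)⁻¹ * t * c y = (c y)⁻¹ * u⁻¹ * (t * u) * c y := by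
              rw [← mem_centralizer_singleton_iff.1 hu]; group
          _ = (u * c y)⁻¹ * t * (u * c y) := by group
          _ = (u' * c y')⁻¹ * t * (u' * c y') := by rw [h']
          _ = (c y')⁻¹ * u'⁻¹ * (t * u') * c y' := by group
          _ = (c y')⁻¹ * t * c y' := by rw [← mem_centralizer_singleton_iff.1 hu']; group
      subst hy
      simp only [mul_left_inj] at h'
      subst h'
      rfl
    · rintro ⟨x, hx⟩
      set y : {y : H | IsConj t (y : G)} := ⟨⟨_, hx⟩, isConj_iff.2 ⟨x⁻¹, by simp⟩⟩ with hy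
      refine ⟨(⟨x * (c y)⁻¹, mem_centralizer_singleton_iff.2 ?_⟩, y), Subtype.ext
        (inv_mul_cancel_right x (c y))⟩
      have h := hc y
      calc x * (c y)⁻¹ * t = x * ((c y)⁻¹ * t * c y) * (c y)⁻¹ := by group
        _ = x * (x⁻¹ * t * x) * (c y)⁻¹ := by rw [h]
        _ = t * (x * (c y)⁻¹) := by group
  have e2 := Nat.card_congr (Equiv.ofBijective f hf)
  rw [Nat.card_prod, Nat.card_coe_set_eq, Nat.card_coe_set_eq] at e2
  rw [mul_comm, ← e1, ← e2, mul_comm]

/-- If the conjugates in `P` of a non-real element of order three have centralizers of order nine in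
`P`, then `P` is extraspecial of order 27 and exponent three. -/
theorem card_eq_of_small_centralizers [IsSimpleGroup G] (hna : ¬ IsMulCommutative G) (Q : Subgroup G)
    (hQ : IsPGroup 3 Q) (hdvd : ¬ 3 ∣ Q.index) (t : Q) (hto : orderOf t = 3)
    (hC : ∀ y : Q, IsConj (t : G) (y : G) → Nat.card (centralizer ({y} : Set Q)) = 9)
    (hnr : ∀ u : G, u * t * u⁻¹ ≠ ((t : G))⁻¹) (h27 : 27 ≤ Nat.card Q) :
    Nat.card Q = 27 ∧ (∀ x : Q, x ^ 3 = 1) ∧ ∃ a b : Q, a * b ≠ b * a := by
  classical
  haveI : Fact (Nat.Prime 3) := ⟨Nat.prime_three⟩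
  have hCt := hC t (IsConj.refl _)
  have hncomm : ∃ a b : Q, a * b ≠ b * a := by
    by_contra h
    push Not at h
    have htop : centralizer ({t} : Set Q) = ⊤ :=
      eq_top_iff.2 fun x _ => mem_centralizer_singleton_iff.2 (h x t)
    rw [htop, Subgroup.card_top] at hCt
    omega
  let of : Q →* Abelianization Q := Abelianization.of
  have hofker : ∀ x : Q, of x = 1 ↔ x ∈ commutator Q := fun x => QuotientGroup.eq_one_iff x
  -- the class of a conjugate is a coset of the derived subgroup
  obtain ⟨r, hr⟩ := IsPGroup.iff_card.1 hQ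
  have hidx9 : 9 ≤ (commutator Q).index := PGroup.two_le_index_commutator hQ hr (by
    by_contra h
    have : (3 : ℕ) ^ r ≤ 3 ^ 1 := Nat.pow_le_pow_right (by norm_num) (by omega)
    omega)
  have hfib : (commutator Q).index = 9 ∧ ∀ y : Q, IsConj (t : G) (y : G) →
      ∀ x : Q, of x = of y → IsConj (t : G) (x : G) := by
    have main : ∀ y : Q, IsConj (t : G) (y : G) →
        Function.Injective (fun s : Q ⧸ centralizer ({y} : Set Q) =>
          Quotient.liftOn' s (fun a => (⟨a * y * a⁻¹, by
            show of (a * y * a⁻¹) = of y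
            rw [map_mul, map_mul, map_inv, mul_comm (of a), mul_inv_cancel_right]⟩ :
              {x : Q // of x = of y})) (fun a b hab => Subtype.ext (by
            rw [QuotientGroup.leftRel_apply] at hab
            have h := mem_centralizer_singleton_iff.1 hab
            show a * y * a⁻¹ = b * y * b⁻¹
            calc a * y * a⁻¹ = a * (y * (a⁻¹ * b)) * b⁻¹ := by group
              _ = a * ((a⁻¹ * b) * y) * b⁻¹ := by rw [h]
              _ = b * y * b⁻¹ := by group))) := by
      intro y _ s s' h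
      induction s using QuotientGroup.induction_on with | _ a => ?_
      induction s' using QuotientGroup.induction_on with | _ b => ?_
      have h' : a * y * a⁻¹ = b * y * b⁻¹ := congrArg Subtype.val h
      rw [QuotientGroup.eq, mem_centralizer_singleton_iff]
      calc a⁻¹ * b * y = a⁻¹ * (b * y * b⁻¹) * b := by group
        _ = a⁻¹ * (a * y * a⁻¹) * b := by rw [h']
        _ = y * (a⁻¹ * b) := by group
    have hcardfib : ∀ y : Q, Nat.card {x : Q // of x = of y} = Nat.card (commutator Q) := fun y =>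
      Nat.card_congr
        { toFun := fun x => ⟨y⁻¹ * x, (hofker _).1 (by
            rw [map_mul, map_inv, x.2, inv_mul_cancel])⟩
          invFun := fun z => ⟨y * z, by rw [map_mul, (hofker _).2 z.2, mul_one]⟩
          left_inv := fun x => Subtype.ext (mul_inv_cancel_left _ _)
          right_inv := fun z => Subtype.ext (inv_mul_cancel_left _ _) }
    have hle : ∀ y : Q, IsConj (t : G) (y : G) →
        Nat.card (Q ⧸ centralizer ({y} : Set Q)) ≤ Nat.card (commutator Q) := fun y hy =>
      (Nat.card_le_card_of_injective _ (main y hy)).trans_eq (hcardfib y)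
    have hmul := (commutator Q).card_mul_index
    have hcq : ∀ y : Q, IsConj (t : G) (y : G) →
        Nat.card (Q ⧸ centralizer ({y} : Set Q)) * 9 = Nat.card Q := fun y hy => by
      rw [card_eq_card_quotient_mul_card_subgroup (centralizer ({y} : Set Q)), hC y hy]
    have hidx : (commutator Q).index = 9 := by
      refine le_antisymm (Nat.le_of_mul_le_mul_left ?_ (Nat.card_pos (α := commutator Q))) hidx9
      rw [hmul, ← hcq t (IsConj.refl _)]
      exact Nat.mul_le_mul_right 9 (hle t (IsConj.refl _))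
    refine ⟨hidx, fun y hy x hx => ?_⟩
    have hcard : Nat.card {x : Q // of x = of y} ≤ Nat.card (Q ⧸ centralizer ({y} : Set Q)) := by
      rw [hcardfib]
      rw [hidx, ← hcq y hy] at hmul
      omega
    obtain ⟨s, hs⟩ := ((main y hy).bijective_of_nat_card_le hcard).2 ⟨x, hx⟩
    induction s using QuotientGroup.induction_on with | _ a => ?_
    have h' : a * y * a⁻¹ = x := congrArg Subtype.val hs
    refine hy.trans (isConj_iff.2 ⟨a, ?_⟩)
    rw [← h']
    rfl
  obtain ⟨hidx, hfib⟩ := hfib
  have hAb : Nat.card (Abelianization Q) = 9 := hidx ▸ (index_eq_card _).symm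
  have hexp : ∀ q : Abelianization Q, q ^ 3 = 1 := by
    intro q
    by_contra hq
    obtain ⟨k, hk, hko⟩ := (Nat.dvd_prime_pow Nat.prime_three).1
      ((hAb ▸ orderOf_dvd_natCard q : orderOf q ∣ 9).trans (by norm_num : 9 ∣ 3 ^ 2))
    have hk2 : k = 2 := by
      by_contra hk2
      exact hq (orderOf_dvd_iff_pow_eq_one.1 (hko ▸ pow_dvd_pow 3 (show k ≤ 1 by omega)))
    haveI hcyc : IsCyclic (Q ⧸ commutator Q) :=
      isCyclic_of_orderOf_eq_card (α := Abelianization Q) q (by rw [hko, hk2, hAb]; norm_num)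
    haveI := PGroup.isCyclic_of_cyclic_abelianization hQ hcyc
    obtain ⟨a, b, hab⟩ := hncomm
    exact hab (IsCyclic.commGroup.mul_comm a b)
  -- the classes
  set A : Set Q := {y | IsConj (t : G) (y : G)} with hA
  have ht1 : (t : G) ≠ 1 := fun h => by
    rw [show t = 1 from Subtype.ext h, orderOf_one] at hto
    exact absurd hto (by norm_num)
  have hA1 : ∀ y ∈ A, of y ≠ 1 := fun y hy h =>
    ht1 (isConj_one_left.1 (hfib y hy 1 ((map_one _).trans h.symm) : IsConj (t : G) ((1 : Q) : G)))
  have hopp : ∀ y ∈ A, ∀ y' ∈ A, of y' ≠ (of y)⁻¹ := by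
    intro y hy y' hy' h
    have h2 : IsConj (t : G) ((y⁻¹ : Q) : G) := hfib y' hy' _ (by rw [map_inv, h])
    obtain ⟨a, ha⟩ := isConj_iff.1 hy
    obtain ⟨b, hb⟩ := isConj_iff.1 h2
    rw [Subgroup.coe_inv, ← ha] at hb
    refine hnr (a⁻¹ * b) ?_
    calc a⁻¹ * b * (t : G) * (a⁻¹ * b)⁻¹ = a⁻¹ * (b * (t : G) * b⁻¹) * a := by group
      _ = a⁻¹ * (a * (t : G) * a⁻¹)⁻¹ * a := by rw [hb]
      _ = (t : G)⁻¹ := by group
  have hpreA : of ⁻¹' (of '' A) = A := by
    refine subset_antisymm (fun x ⟨y, hy, hxy⟩ => hfib y hy x hxy.symm)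
      (Set.subset_preimage_image _ _)
  set k := (of '' A).ncard with hk
  have hAcard : A.ncard = Nat.card (commutator Q) * k := by
    rw [hk]
    conv_lhs => rw [← hpreA]
    rw [← Nat.card_coe_set_eq, ← Nat.card_coe_set_eq (of '' A)]
    exact (Nat.card_congr (QuotientGroup.preimageMkEquivSubgroupProdSet (commutator Q) (of '' A))).trans
      (Nat.card_prod _ _)
  -- a line without conjugates, unless `P` has order 27 and exponent three
  by_cases hgood : Nat.card Q = 27 ∧ ∀ x : Q, x ^ 3 = 1
  · exact ⟨hgood.1, hgood.2, hncomm⟩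
  exfalso
  have hQ' : Nat.card (commutator Q) * 9 = Nat.card Q := by
    rw [← hidx, card_mul_index]
  obtain ⟨y, hyQ, hy1, hy2⟩ : ∃ y : Q, y ∉ commutator Q ∧ y ∉ A ∧ y⁻¹ ∉ A := by
    by_cases h81 : Nat.card Q = 27
    · push Not at hgood
      obtain ⟨y, hy⟩ := hgood h81
      refine ⟨y, fun h => hy ?_, fun h => hy ?_, fun h => hy ?_⟩
      · have h3 : Nat.card (commutator Q) = 3 := by omega
        have := congrArg Subtype.val (pow_card_eq_one' (G := commutator Q) (x := ⟨y, h⟩))
        rw [h3] at this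
        exact this
      · obtain ⟨a, ha⟩ := isConj_iff.1 h
        refine Subtype.ext ?_
        rw [SubmonoidClass.coe_pow, ← ha, conj_pow, ← SubmonoidClass.coe_pow, ← hto,
          pow_orderOf_eq_one]
        simp
      · obtain ⟨a, ha⟩ := isConj_iff.1 h
        refine inv_inj.1 (Subtype.ext ?_)
        rw [← inv_pow, SubmonoidClass.coe_pow, ← ha, conj_pow, ← SubmonoidClass.coe_pow, ← hto,
          pow_orderOf_eq_one]
        simp
    · haveI := hQ.isNilpotent
      obtain ⟨i, hi⟩ := IsPGroup.iff_card.1 (hQ.to_subgroup (commutator Q))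
      have hi2 : 2 ≤ i := by
        by_contra h
        have : (3 : ℕ) ^ i ≤ 3 ^ 1 := Nat.pow_le_pow_right (by norm_num) (by omega)
        omega
      have hC9 : ∀ w : Q, w ∈ A → ∀ H : Subgroup Q, H ≤ centralizer ({w} : Set Q) →
          H ≤ commutator Q → 9 ≤ Nat.card H → w ∈ commutator Q := by
        intro w hw H h1 h2 h9
        have := eq_of_le_of_card_ge h1 (le_of_eq_of_le (hC w hw) h9)
        exact h2 (this ▸ mem_centralizer_singleton_iff.2 rfl)
      -- an element of the derived subgroup, central modulo the centre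
      set Z := commutator Q ⊓ center Q with hZ
      have hcnorm : (commutator Q).Normal := inferInstance
      have hPne : commutator Q ≠ ⊥ := fun h => by
        rw [h, Subgroup.card_bot] at hi
        have : (3 : ℕ) ^ 2 ≤ 3 ^ i := Nat.pow_le_pow_right (by norm_num) hi2
        omega
      have hZne := CfsgLib.Coprime.nilpotent_inf_center_ne_bot (commutator Q) hPne
      have hZc : Nat.card Z ≤ 3 := by
        by_contra hZ3
        push Not at hZ3
        obtain ⟨j, hj⟩ := IsPGroup.iff_card.1 (hQ.to_subgroup Z)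
        have : 2 ≤ j := by
          by_contra h
          have : (3 : ℕ) ^ j ≤ 3 ^ 1 := Nat.pow_le_pow_right (by norm_num) (by omega)
          omega
        have h9 : (3 : ℕ) ^ 2 ≤ 3 ^ j := Nat.pow_le_pow_right (by norm_num) this
        exact hA1 t (IsConj.refl _) ((hofker t).2 (hC9 t (IsConj.refl _) Z
          (fun z hz => mem_centralizer_singleton_iff.2 (mem_center_iff.1 hz.2 t).symm)
          inf_le_left (by omega)))
      have hne : (commutator Q).map (QuotientGroup.mk' (center Q)) ≠ ⊥ := by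
        intro h
        rw [Subgroup.map_eq_bot_iff, QuotientGroup.ker_mk'] at h
        have : Nat.card (commutator Q) ≤ Nat.card Z := card_le_of_le (le_inf le_rfl h)
        have : (3 : ℕ) ^ 2 ≤ 3 ^ i := Nat.pow_le_pow_right (by norm_num) hi2
        omega
      haveI := hcnorm.map (QuotientGroup.mk' (center Q)) (QuotientGroup.mk'_surjective _)
      obtain ⟨q, hq, hq1⟩ := (Subgroup.bot_or_exists_ne_one _).resolve_left
        (CfsgLib.Coprime.nilpotent_inf_center_ne_bot _ hne)
      obtain ⟨⟨w, hw, rfl⟩, hqc⟩ := hq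
      have hwc : ∀ x : Q, x * w * x⁻¹ * w⁻¹ ∈ Z := by
        intro x
        refine mem_inf.2 ⟨mul_mem (hcnorm.conj_mem w hw x) (inv_mem hw), ?_⟩
        show _ ∈ center Q
        rw [← QuotientGroup.eq_one_iff]
        have := mem_center_iff.1 hqc (QuotientGroup.mk' (center Q) x)
        show QuotientGroup.mk' (center Q) (x * w * x⁻¹ * w⁻¹) = 1
        rw [map_mul, map_mul, map_mul, map_inv, map_inv, this, mul_inv_cancel_right, mul_inv_cancel]
      have hcenZ : ∀ z : Z, ∀ x : Q, x * (z : Q) = (z : Q) * x := fun z x => mem_center_iff.1 z.2.2 x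
      letI : CommGroup Z :=
        { (inferInstance : Group Z) with mul_comm := fun a b => Subtype.ext (hcenZ b a) }
      let φ : Q →* Z := MonoidHom.mk' (fun x => ⟨x * w * x⁻¹ * w⁻¹, hwc x⟩) fun a b => Subtype.ext (by
        show a * b * w * (a * b)⁻¹ * w⁻¹ = a * w * a⁻¹ * w⁻¹ * (b * w * b⁻¹ * w⁻¹)
        calc a * b * w * (a * b)⁻¹ * w⁻¹ = a * (b * w * b⁻¹ * w⁻¹) * (w * a⁻¹ * w⁻¹) := by group
          _ = (b * w * b⁻¹ * w⁻¹) * a * (w * a⁻¹ * w⁻¹) := by rw [hcenZ ⟨_, hwc b⟩ a]
          _ = (b * w * b⁻¹ * w⁻¹) * (a * w * a⁻¹ * w⁻¹) := by group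
          _ = _ := (hcenZ ⟨_, hwc b⟩ _).symm)
      have hker : commutator Q ≤ φ.ker := Abelianization.commutator_subset_ker φ
      obtain ⟨y, hy, hyn⟩ : ∃ y ∈ φ.ker, y ∉ commutator Q := by
        by_contra h
        push Not at h
        have h1 := φ.ker.card_mul_index
        rw [index_ker] at h1
        have h2 := card_le_of_le (H := φ.ker) (K := commutator Q) h
        have h3 : Nat.card φ.range ≤ 3 := (card_le_card_group φ.range).trans hZc
        have := Nat.mul_le_mul h2 h3
        have := Nat.card_pos (α := commutator Q)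
        omega
      have hyw : y * w = w * y := by
        have e : y * w * y⁻¹ * w⁻¹ = 1 := congrArg Subtype.val (MonoidHom.mem_ker.1 hy)
        rwa [mul_inv_eq_one, mul_inv_eq_iff_eq_mul] at e
      set R := Z ⊔ zpowers w with hR
      have hR9 : 9 ≤ Nat.card R := by
        have hwZ : w ∉ Z := fun h => hq1 ((QuotientGroup.eq_one_iff w).2 h.2)
        have hlt : Z < R := lt_of_le_of_ne le_sup_left fun h =>
          hwZ (h ▸ (le_sup_right : zpowers w ≤ R) (mem_zpowers w))
        obtain ⟨j, hj⟩ := IsPGroup.iff_card.1 (hQ.to_subgroup R)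
        obtain ⟨l, hl⟩ := IsPGroup.iff_card.1 (hQ.to_subgroup Z)
        have h1 : Nat.card Z < Nat.card R := lt_of_le_of_ne (card_le_of_le hlt.le) fun h =>
          hlt.ne (eq_of_le_of_card_ge hlt.le h.ge)
        have h2 : 1 < Nat.card Z := (one_lt_card_iff_ne_bot _).2 hZne
        have hl1 : 1 ≤ l := by
          by_contra h
          rw [show l = 0 by omega, pow_zero] at hl
          omega
        have hjl : l < j := (Nat.pow_lt_pow_iff_right (show 1 < 3 by norm_num)).1 (hl ▸ hj ▸ h1)
        have : (3 : ℕ) ^ 2 ≤ 3 ^ j := Nat.pow_le_pow_right (by norm_num) (by omega)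
        omega
      have hRP : R ≤ commutator Q := sup_le inf_le_left (zpowers_le.2 hw)
      have hRy : R ≤ centralizer ({y} : Set Q) := sup_le
        (fun z hz => mem_centralizer_singleton_iff.2 (mem_center_iff.1 hz.2 y).symm)
        (zpowers_le.2 (mem_centralizer_singleton_iff.2 hyw.symm))
      refine ⟨y, hyn, fun h => hyn (hC9 y h R hRy hRP hR9), fun h => hyn ?_⟩
      refine inv_mem_iff.1 (hC9 _ h R (hRy.trans fun z hz => mem_centralizer_singleton_iff.2 ?_) hRP hR9)
      exact (Commute.inv_right (mem_centralizer_singleton_iff.1 hz : Commute z y)).eq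
  set m := of y with hm
  have hm1 : m ≠ 1 := fun h => hyQ ((hofker y).1 h)
  have hmA : m ∉ of '' A ∧ m⁻¹ ∉ of '' A := by
    refine ⟨fun ⟨x, hx, h⟩ => hy1 (hfib x hx y h.symm), fun ⟨x, hx, h⟩ => hy2 (hfib x hx _ ?_)⟩
    rw [map_inv, h]
  have hinv : ∀ q : Abelianization Q, q * q = q⁻¹ := fun q => by
    rw [eq_inv_iff_mul_eq_one, ← hexp q, pow_succ, pow_two]
  -- at most three classes
  have hk3 : k ≤ 3 := by
    have hd : Disjoint (of '' A) (of '' A)⁻¹ := by
      rw [Set.disjoint_left]
      rintro q ⟨x, hx, rfl⟩ ⟨x', hx', h⟩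
      exact hopp x hx x' hx' h
    have hd2 : Disjoint (of '' A ∪ (of '' A)⁻¹) {1, m, m⁻¹} := by
      rw [Set.disjoint_right]
      rintro q (rfl | rfl | rfl) (h | h)
      · obtain ⟨x, hx, h⟩ := h
        exact hA1 x hx h
      · rw [Set.mem_inv, inv_one] at h
        obtain ⟨x, hx, h⟩ := h
        exact hA1 x hx h
      · exact hmA.1 h
      · exact hmA.2 h
      · exact hmA.2 h
      · rw [Set.mem_inv, inv_inv] at h
        exact hmA.1 h
    have h3 : ({1, m, m⁻¹} : Set (Abelianization Q)).ncard = 3 := by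
      refine Set.ncard_eq_three.2 ⟨1, m, m⁻¹, Ne.symm hm1, fun h => hm1 (inv_eq_one.1 h.symm),
        fun h => hm1 ?_, rfl⟩
      have h2 := hinv m
      rw [← h] at h2
      exact mul_eq_left.1 h2
    have h := Set.ncard_le_ncard (Set.subset_univ (of '' A ∪ (of '' A)⁻¹ ∪ {1, m, m⁻¹}))
    rw [Set.ncard_univ, hAb, Set.ncard_union_eq hd2, Set.ncard_union_eq hd, h3, Set.ncard_inv,
      ← hk] at h
    omega
  -- not three, by counting fixed cosets
  have hk3' : k ≠ 3 := by
    intro h
    have hF := card_fixed_cosets Q (t : G)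
    rw [← hA, hAcard, h, ← hQ'] at hF
    have hmod : Nat.card (G ⧸ Q) ≡ (fixedBy (G ⧸ Q) (t : G)).ncard [MOD 3] :=
      ncard_fixedBy_modEq (by rw [Subgroup.orderOf_coe, hto])
    have hCC : 9 ∣ Nat.card (centralizer ({(t : G)} : Set G)) := by
      have e : Nat.card ((centralizer ({t} : Set Q)).map Q.subtype) = 9 :=
        (card_map_of_injective Q.subtype_injective).trans hCt
      rw [← e]
      refine card_dvd_of_le ?_
      rintro _ ⟨x, hx, rfl⟩
      exact mem_centralizer_singleton_iff.2 (congrArg Subtype.val (mem_centralizer_singleton_iff.1 hx))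
    obtain ⟨d, hd⟩ := hCC
    have hpos : 0 < Nat.card (commutator Q) := Nat.card_pos
    have hF' : (fixedBy (G ⧸ Q) (t : G)).ncard = 3 * d := by
      refine Nat.eq_of_mul_eq_mul_right (Nat.mul_pos hpos (show 0 < 9 by norm_num)) ?_
      rw [hF, hd]
      ring
    rw [← index_eq_card] at hmod
    unfold Nat.ModEq at hmod
    omega
  obtain ⟨K, hK, hKA⟩ : ∃ K : Subgroup (Abelianization Q), of t ∉ K ∧
      ∀ q ∈ of '' A, q * (of t)⁻¹ ∈ K := by
    have htA : of t ∈ of '' A := ⟨t, IsConj.refl _, rfl⟩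
    rcases (show k = 1 ∨ k = 2 by
      have : 0 < k := (Set.ncard_pos).2 ⟨_, htA⟩
      omega) with h | h
    · refine ⟨⊥, fun h => hA1 t (IsConj.refl _) (mem_bot.1 h), fun q hq => mem_bot.2 ?_⟩
      obtain ⟨a, ha⟩ := Set.ncard_eq_one.1 h
      rw [ha] at hq htA
      rw [show q = a from hq, show of t = a from htA, mul_inv_cancel]
    · obtain ⟨a, ha, hau⟩ : ∃ a ∈ of '' A, ∀ q ∈ of '' A, q = of t ∨ q = a := by
        obtain ⟨a, b, -, hab⟩ := Set.ncard_eq_two.1 h
        rw [hab] at htA ⊢
        rcases htA with h' | h'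
        · exact ⟨b, Or.inr rfl, fun q hq => hq.imp (fun e => e.trans h'.symm) id⟩
        · exact ⟨a, Or.inl rfl, fun q hq => hq.symm.imp (fun e => e.trans h'.symm) id⟩
      refine ⟨zpowers (a * (of t)⁻¹), fun hmem => ?_, fun q hq => ?_⟩
      · obtain ⟨j, hj⟩ := mem_zpowers_iff.1 hmem
        set c := a * (of t)⁻¹ with hc
        have hc3 : c ^ (3 : ℤ) = 1 := by rw [show (3 : ℤ) = ((3 : ℕ) : ℤ) from rfl, zpow_natCast, hexp]
        rw [← Int.mul_ediv_add_emod j 3, zpow_add, zpow_mul, hc3, one_zpow, one_mul] at hj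
        obtain ⟨x, hx, hxa⟩ := ha
        rcases (show j % 3 = 0 ∨ j % 3 = 1 ∨ j % 3 = 2 by omega) with e | e | e
        · rw [e, zpow_zero] at hj
          exact hA1 t (IsConj.refl _) hj.symm
        · rw [e, zpow_one, hc, mul_inv_eq_iff_eq_mul, ← pow_two] at hj
          refine hopp t (IsConj.refl _) x hx ?_
          rw [hxa, hj, pow_two, hinv]
        · rw [e, zpow_two, hinv, hc, mul_inv_rev, inv_inv, mul_eq_left, inv_eq_one] at hj
          exact hA1 x hx (hxa.trans hj)
      · rcases hau q hq with rfl | rfl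
        · rw [mul_inv_cancel]
          exact one_mem _
        · exact mem_zpowers _
  refine false_of_constant hna Q hdvd t hto ((QuotientGroup.mk' K).comp of) ?_ fun x hx => ?_
  · exact fun h => hK ((QuotientGroup.eq_one_iff _).1 h)
  · show QuotientGroup.mk' K (of x) = QuotientGroup.mk' K (of t)
    rw [← mul_inv_eq_one, ← map_inv, ← map_mul]
    exact (QuotientGroup.eq_one_iff _).2 (hKA _ ⟨x, hx, rfl⟩)

end CfsgLib.Perm.FixityFour
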