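import Cfsg.Agent.Lib.Perm.FixityFour.LocalPair
import Cfsg.Agent.Lib.Perm.FixityFour.ThreeTransfer
import Cfsg.Agent.Lib.Invol.Basic

/-!
# A moved fixed point set of an element of order three
-/

set_option autoImplicit false
set_option linter.unusedSectionVars false
set_option linter.style.haveILetI false

open MulAction Subgroup
open scoped Pointwise

namespace CfsgLib.Perm.FixityFour

variable {G Ω : Type*} [Group G] [MulAction G Ω] [Finite G] [Finite Ω]

/-- An element inverting an element of order three has even order. -/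
theorem even_of_inverts {K : Type*} [Group K] {t v : K} (ht : orderOf t = 3)
    (hv : v * t * v⁻¹ = t⁻¹) : Even (orderOf v) := by
  rcases Nat.even_or_odd (orderOf v) with he | ⟨m, hm⟩
  · exact he
  exfalso
  have h2 : Commute (v ^ 2) t := by
    have h : v ^ 2 * t * (v ^ 2)⁻¹ = t := by
      rw [pow_two, show v * v * t * (v * v)⁻¹ = v * (v * t * v⁻¹) * v⁻¹ by group, hv, ← conj_inv,
        hv, inv_inv]
    exact mul_inv_eq_iff_eq_mul.1 h
  have hv' : (v ^ 2) ^ (m + 1) = v := by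
    rw [← pow_mul, show 2 * (m + 1) = orderOf v + 1 by omega, pow_succ, pow_orderOf_eq_one, one_mul]
  have hc : Commute v t := hv' ▸ h2.pow_left (m + 1)
  rw [hc.eq, mul_inv_cancel_right] at hv
  have h1 : t ^ 2 = 1 := by rw [pow_two]; nth_rewrite 1 [hv]; exact inv_mul_cancel t
  rw [← orderOf_dvd_iff_pow_eq_one, ht] at h1
  exact absurd h1 (by decide)

/-- An element of even order fixes no point. -/
theorem smul_ne_of_even (hf0 : ∀ v : G, orderOf v = 2 → fixedBy Ω v = ∅) {v : G}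
    (hv : Even (orderOf v)) (x : Ω) : v • x ≠ x := fun hx => by
  have := fixedBy_subset_pow v (orderOf v / 2) (hx : x ∈ fixedBy Ω v)
  rw [hf0 _ (CfsgLib.Invol.orderOf_pow_half hv)] at this
  exact this

theorem eq_self_of_smul_two {e : G} (he : e ^ 3 = 1) {a : Ω} (h : e • e • a = a) : e • a = a := by
  conv_lhs => rw [← h]
  rw [← mul_smul, ← mul_smul, show e * e * e = e ^ 3 by rw [pow_succ, pow_two], he, one_smul]

/-- Three distinct points of an orbit of an element of order three. -/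
theorem three_le_of_moved {Φ : Set Ω} {e : G} (he3 : e ^ 3 = 1) (heΦ : e • Φ = Φ) {a : Ω}
    (ha : a ∈ Φ) (hea : e • a ≠ a) :
    ({a, e • a, e • e • a} : Set Ω) ⊆ Φ ∧ ({a, e • a, e • e • a} : Set Ω).ncard = 3 := by
  have h1 : ∀ b ∈ Φ, e • b ∈ Φ := fun b hb => by
    rw [← heΦ]
    exact Set.smul_mem_smul_set hb
  refine ⟨?_, Set.ncard_eq_three.2 ⟨a, e • a, e • e • a, Ne.symm hea,
    fun h => hea (eq_self_of_smul_two he3 h.symm), fun h => hea (smul_left_cancel e h).symm, rfl⟩⟩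
  rintro b (rfl | rfl | rfl)
  exacts [ha, h1 _ ha, h1 _ (h1 _ ha)]

/-- A permutation of at most four points, adjusted by a 3-cycle, fixes a point. -/
theorem exists_fix_of_cycle {Φ : Set Ω} (h4 : Φ.ncard ≤ 4) {e u : G} (he3 : e ^ 3 = 1)
    (heΦ : e • Φ = Φ) (huΦ : u • Φ = Φ) {a : Ω} (ha : a ∈ Φ) (hea : e • a ≠ a) :
    ∃ i j : ℕ, ∃ b ∈ Φ, (e ^ i * (e ^ j)⁻¹ * u) • b = b := by
  obtain ⟨hBΦ, hB3⟩ := three_le_of_moved he3 heΦ ha hea
  set B : Set Ω := {a, e • a, e • e • a} with hB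
  have hpowB : ∀ b ∈ B, ∃ i : ℕ, e ^ i • a = b := by
    rintro b (rfl | rfl | rfl)
    exacts [⟨0, by rw [pow_zero, one_smul]⟩, ⟨1, by rw [pow_one]⟩, ⟨2, by rw [pow_two, mul_smul]⟩]
  obtain ⟨b, hb, hub⟩ : ∃ b ∈ B, u • b ∈ B := by
    by_contra h
    push Not at h
    have hsub : u • B ⊆ Φ \ B := by
      rintro _ ⟨b, hb, rfl⟩
      exact ⟨huΦ ▸ Set.smul_mem_smul_set (hBΦ hb), h b hb⟩
    have := Set.ncard_le_ncard hsub
    rw [Set.ncard_smul_set, Set.ncard_sdiff hBΦ, hB3] at this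
    omega
  obtain ⟨i, hi⟩ := hpowB b hb
  obtain ⟨j, hj⟩ := hpowB _ hub
  exact ⟨i, j, b, hBΦ hb, by rw [mul_smul, mul_smul, ← hj, inv_smul_smul, hi]⟩

/-- An element of order three with a commuting 3-cycle on its fixed point set is not real. -/
theorem not_real_of_cycle (hf0 : ∀ v : G, orderOf v = 2 → fixedBy Ω v = ∅) {t e : G}
    (ht : orderOf t = 3) (h4 : (fixedBy Ω t).ncard ≤ 4) (he3 : e ^ 3 = 1) (hte : Commute e t)
    {a : Ω} (ha : a ∈ fixedBy Ω t) (hea : e • a ≠ a) (u : G) : u * t * u⁻¹ ≠ t⁻¹ := by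
  intro hu
  obtain ⟨i, j, b, -, hb⟩ := exists_fix_of_cycle h4 he3 (smul_fixedBy_of_commute hte)
    (by rw [smul_fixedBy_eq, hu, fixedBy_inv]) ha hea (u := u)
  refine smul_ne_of_even hf0 (even_of_inverts ht ?_) b hb
  have hc : Commute (e ^ i * (e ^ j)⁻¹) t := (hte.pow_left i).mul_left (hte.pow_left j).inv_left
  calc e ^ i * (e ^ j)⁻¹ * u * t * (e ^ i * (e ^ j)⁻¹ * u)⁻¹
      = (e ^ i * (e ^ j)⁻¹) * (u * t * u⁻¹) * (e ^ i * (e ^ j)⁻¹)⁻¹ := by group
    _ = t⁻¹ := by rw [hu, hc.inv_right.eq, mul_inv_cancel_right]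

theorem cube_mem_pw {Φ : Set Ω} (h4 : Φ.ncard ≤ 4) {x : G} (hx : ∃ k : ℕ, x ^ 3 ^ k = 1)
    (hst : x • Φ = Φ) : x ^ 3 ∈ pw G Φ := by
  classical
  haveI : Fintype Φ := Fintype.ofFinite _
  obtain ⟨k, hk⟩ := hx
  set r := res Φ ⟨x, mem_stabilizer_iff.2 hst⟩ with hr
  have hrk : r ^ 3 ^ k = 1 := by
    rw [hr, ← map_pow, show (⟨x, mem_stabilizer_iff.2 hst⟩ : stabilizer G Φ) ^ 3 ^ k = 1 from
      Subtype.ext hk, map_one]
  obtain ⟨l, -, hl⟩ := (Nat.dvd_prime_pow Nat.prime_three).1 (orderOf_dvd_of_pow_eq_one hrk)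
  have h24 : orderOf r ∣ 24 := by
    refine (orderOf_dvd_natCard r).trans ?_
    rw [Nat.card_perm, Nat.card_coe_set_eq]
    exact (Nat.factorial_dvd_factorial h4).trans (by decide)
  have hle := pow_three_le_three (hl ▸ h24)
  have hl1 : l ≤ 1 := (Nat.pow_le_pow_iff_right (show 1 < 3 by norm_num)).1 (hle.trans_eq (pow_one 3).symm)
  have h3 : r ^ 3 = 1 := orderOf_dvd_iff_pow_eq_one.1 (hl ▸ pow_dvd_pow 3 hl1)
  rw [hr, ← map_pow, res_eq_one] at h3
  exact h3

/-- A 3-group stabilizing two small sets and acting faithfully on their union. -/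
theorem card_le_nine {Q : Subgroup G} (hQ : IsPGroup 3 Q) {Φ Φ' : Set Ω} (h4 : Φ.ncard ≤ 4)
    (h4' : Φ'.ncard ≤ 4) (hst : ∀ q ∈ Q, q • Φ = Φ) (hst' : ∀ q ∈ Q, q • Φ' = Φ')
    (htriv : ∀ q ∈ Q, Φ ⊆ fixedBy Ω q → Φ' ⊆ fixedBy Ω q → q = 1) :
    Nat.card Q ≤ 9 ∧ ∀ q ∈ Q, q ^ 3 = 1 := by
  haveI : Fact (Nat.Prime 3) := ⟨Nat.prime_three⟩
  refine ⟨?_, fun q hq => ?_⟩
  swap
  · have hq' : ∃ k : ℕ, q ^ 3 ^ k = 1 := (hQ ⟨q, hq⟩).imp fun k hk => congrArg Subtype.val hk
    exact htriv _ (pow_mem hq 3) (mem_pw.1 (cube_mem_pw h4 hq' (hst q hq)))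
      (mem_pw.1 (cube_mem_pw h4' hq' (hst' q hq)))
  have hbound : ∀ (R : Subgroup G), IsPGroup 3 R → ∀ A : Set Ω, A.ncard ≤ 4 → R ≤ stabilizer G A →
      (pw G A).relIndex R ≤ 3 := by
    intro R hR A hA hRA
    obtain ⟨k, hk⟩ := hR.index ((pw G A).subgroupOf R)
    rw [relIndex, hk]
    refine pow_three_le_three (hk ▸ (relIndex_pw_dvd hRA).trans ?_)
    exact (Nat.factorial_dvd_factorial hA).trans (by decide)
  have h1 := hbound Q hQ Φ h4 fun q hq => mem_stabilizer_iff.2 (hst q hq)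
  have h2 := hbound (Q ⊓ pw G Φ) (hQ.to_le inf_le_left) Φ' h4'
    fun q hq => mem_stabilizer_iff.2 (hst' q hq.1)
  have hbot : (pw G Φ').subgroupOf (Q ⊓ pw G Φ) = ⊥ := eq_bot_iff.2 fun q hq =>
    mem_bot.2 (Subtype.ext (htriv _ q.2.1 (mem_pw.1 q.2.2) (mem_pw.1 (mem_subgroupOf.1 hq))))
  rw [relIndex, hbot, index_bot] at h2
  have h3 := card_eq_relIndex_mul (inf_le_left : Q ⊓ pw G Φ ≤ Q)
  rw [inf_relIndex_left] at h3
  rw [h3]
  exact le_of_le_of_eq (Nat.mul_le_mul h1 h2) (by norm_num)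

/-- Elements of a group of order at most nine containing two independent commuting elements. -/
theorem span_pair {U : Subgroup G} (hU : Nat.card U ≤ 9) {x y : G} (hx : x ∈ U) (hy : y ∈ U)
    (hxo : orderOf x = 3) (hxy : Commute x y) (hyx : y ∉ zpowers x) (hy3 : y ^ 3 = 1) {u : G}
    (hu : u ∈ U) : ∃ i j : ℕ, i < 3 ∧ j < 3 ∧ u = x ^ i * y ^ j := by
  let f : Fin 3 × Fin 3 → U := fun q => ⟨x ^ (q.1 : ℕ) * y ^ (q.2 : ℕ),
    mul_mem (pow_mem hx _) (pow_mem hy _)⟩
  have hf : Function.Injective f := by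
    rintro ⟨i, j⟩ ⟨i', j'⟩ h
    have h' : x ^ (i : ℕ) * y ^ (j : ℕ) = x ^ (i' : ℕ) * y ^ (j' : ℕ) := congrArg Subtype.val h
    have hj : j = j' := by
      by_contra hne
      have h2 : y ^ (j : ℕ) * (y ^ (j' : ℕ))⁻¹ = (x ^ (i : ℕ))⁻¹ * x ^ (i' : ℕ) :=
        calc y ^ (j : ℕ) * (y ^ (j' : ℕ))⁻¹
            = (x ^ (i : ℕ))⁻¹ * (x ^ (i : ℕ) * y ^ (j : ℕ)) * (y ^ (j' : ℕ))⁻¹ := by group
          _ = (x ^ (i : ℕ))⁻¹ * (x ^ (i' : ℕ) * y ^ (j' : ℕ)) * (y ^ (j' : ℕ))⁻¹ := by rw [h']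
          _ = (x ^ (i : ℕ))⁻¹ * x ^ (i' : ℕ) := by group
      have hmem : y ^ ((j : ℤ) - (j' : ℤ)) ∈ zpowers x := by
        rw [zpow_sub, zpow_natCast, zpow_natCast, h2]
        exact mul_mem (inv_mem (npow_mem_zpowers x _)) (npow_mem_zpowers x _)
      refine hyx ?_
      have hy3' : y ^ (3 : ℤ) = 1 := by
        rw [show (3 : ℤ) = ((3 : ℕ) : ℤ) from rfl, zpow_natCast, hy3]
      have hd : ¬ (3 : ℤ) ∣ (j : ℤ) - (j' : ℤ) := by
        have := j.2
        have := j'.2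
        have : (j : ℕ) ≠ (j' : ℕ) := fun h => hne (Fin.ext h)
        omega
      obtain ⟨a, b, hab⟩ := (Prime.coprime_iff_not_dvd Int.prime_three).2 hd
      rw [← zpow_one y, ← hab, zpow_add, mul_comm a, mul_comm b, zpow_mul, zpow_mul, hy3',
        one_zpow, one_mul]
      exact zpow_mem hmem b
    subst hj
    simp only [mul_left_inj] at h'
    refine Prod.ext (Fin.ext ?_) rfl
    exact pow_injOn_Iio_orderOf (by rw [Set.mem_Iio, hxo]; exact i.2)
      (by rw [Set.mem_Iio, hxo]; exact i'.2) h'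
  obtain ⟨⟨i, j⟩, hij⟩ := (hf.bijective_of_nat_card_le
    (by rw [Nat.card_prod, Nat.card_fin]; exact hU)).2 ⟨u, hu⟩
  exact ⟨i, j, i.2, j.2, (congrArg Subtype.val hij).symm⟩

/-- A transvection. -/
theorem exists_transvection {s t z : G} (hs : Odd (orderOf s)) (ht3 : t ^ 3 = 1) (hz3 : z ^ 3 = 1)
    (hsz : Commute s z) (htz : Commute t z) (hst : ¬ Commute s t) {i j : ℕ} (hi : i < 3) (hj : j < 3)
    (h : s * t * s⁻¹ = t ^ i * z ^ j) : ∃ s₁ : G, Commute s₁ z ∧ s₁ * t * s₁⁻¹ = t * z := by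
  have hz : ∀ k : ℕ, s * z ^ k * s⁻¹ = z ^ k := fun k => by
    rw [(hsz.pow_right k).eq, mul_inv_cancel_right]
  have hs2 : s * s * t * (s * s)⁻¹ = (t ^ i * z ^ j) ^ i * z ^ j := by
    calc s * s * t * (s * s)⁻¹ = s * (t ^ i * z ^ j) * s⁻¹ := by rw [← h]; group
      _ = (s * t * s⁻¹) ^ i * (s * z ^ j * s⁻¹) := by rw [conj_pow]; group
      _ = _ := by rw [h, hz]
  interval_cases i
  · exfalso
    refine hst ?_
    rw [pow_zero, one_mul] at h
    have : t = z ^ j := by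
      calc t = s⁻¹ * (s * t * s⁻¹) * s := by group
        _ = s⁻¹ * (s * z ^ j * s⁻¹) * s := by rw [h, hz]
        _ = z ^ j := by group
    exact this ▸ hsz.pow_right j
  · rw [pow_one] at h
    interval_cases j
    · rw [pow_zero, mul_one, mul_inv_eq_iff_eq_mul] at h
      exact absurd h hst
    · exact ⟨s, hsz, by rwa [pow_one] at h⟩
    · refine ⟨s * s, hsz.mul_left hsz, ?_⟩
      rw [hs2, pow_one, pow_one, mul_assoc, ← pow_add, show z ^ (2 + 2) = z by
        rw [show 2 + 2 = 3 + 1 from rfl, pow_succ, hz3, one_mul]]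
  · exfalso
    refine hst ?_
    have he : (t ^ 2 * z ^ j) ^ 2 * z ^ j = t := by
      rw [((htz.pow_pow 2 j)).mul_pow, mul_assoc, ← pow_mul, ← pow_mul, ← pow_add,
        show j * 2 + j = 3 * j by ring, pow_mul z, hz3, one_pow, mul_one,
        show 2 * 2 = 3 + 1 from rfl, pow_succ, ht3, one_mul]
    rw [he] at hs2
    have hc : Commute (s * s) t := mul_inv_eq_iff_eq_mul.1 hs2
    obtain ⟨m, hm⟩ := hs
    have : (s * s) ^ (m + 1) = s := by
      rw [← pow_two, ← pow_mul, show 2 * (m + 1) = orderOf s + 1 by omega, pow_succ,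
        pow_orderOf_eq_one, one_mul]
    exact this ▸ hc.pow_left (m + 1)

theorem odd_orderOf_of_three {S : Subgroup G} (hS : IsPGroup 3 S) {s : G} (hs : s ∈ S) :
    Odd (orderOf s) := by
  obtain ⟨k, hk⟩ := hS ⟨s, hs⟩
  have h : s ^ 3 ^ k = 1 := congrArg Subtype.val hk
  exact Odd.of_dvd_nat (Odd.pow (by decide)) (orderOf_dvd_of_pow_eq_one h)

/-- A moved fixed point set of maximal size of an element of order three gives an extraspecial
Sylow subgroup of order 27. -/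
theorem card_eq_of_moved [IsSimpleGroup G] (hna : ¬ IsMulCommutative G) (hbd : AtMostFour G Ω)
    (hf0 : ∀ v : G, orderOf v = 2 → fixedBy Ω v = ∅) (P : Sylow 3 G) {t : G}
    (htP : t ∈ (P : Subgroup G)) (ht : orderOf t = 3)
    (hmax : ∀ u : G, orderOf u = 3 → (fixedBy Ω u).ncard ≤ (fixedBy Ω t).ncard)
    (hmov : ∃ s ∈ (P : Subgroup G), s • fixedBy Ω t ≠ fixedBy Ω t) :
    Nat.card (P : Subgroup G) = 27 ∧ (∀ x : (P : Subgroup G), x ^ 3 = 1) ∧
      ∃ a b : (P : Subgroup G), a * b ≠ b * a := by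
  classical
  haveI : Fact (Nat.Prime 3) := ⟨Nat.prime_three⟩
  set Φ := fixedBy Ω t with hΦ
  have hP : IsPGroup 3 (P : Subgroup G) := P.2
  have h4 : Φ.ncard ≤ 4 := hbd t (ne_one_of_orderOf_eq_prime Nat.prime_three ht)
  have M : Moved 3 (P : Subgroup G) Φ := ⟨hbd, hP, h4, ⟨t, htP, ht, rfl⟩, fun u _ hu hsub =>
    (Set.eq_of_subset_of_ncard_le hsub (hmax u hu)).symm, hmov⟩
  obtain ⟨Ψ, C, M'⟩ := M.exists_companion
  -- nothing of three power order fixes both sets
  have htriv : ∀ {S : Subgroup G}, IsPGroup 3 S → ∀ x ∈ S, Φ ⊆ fixedBy Ω x → Ψ ⊆ fixedBy Ω x →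
      x = 1 := by
    intro S hS x hx h1 h2
    by_contra hx1
    obtain ⟨k, hk⟩ := exists_pow_prime hS hx hx1
    have hsub : Φ ∪ Ψ ⊆ fixedBy Ω (x ^ k) := (Set.union_subset h1 h2).trans (fixedBy_subset_pow x k)
    have hlt : Φ.ncard < (Φ ∪ Ψ).ncard :=
      Set.ncard_lt_ncard (ssubset_of_subset_of_ne Set.subset_union_left fun h => C.ne
        (Set.eq_of_subset_of_ncard_le (h ▸ Set.subset_union_right) C.card.ge))
    have := (Set.ncard_le_ncard hsub).trans (hmax _ hk)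
    omega
  set U := setStab (P : Subgroup G) Φ with hUdef
  have hUP : U ≤ (P : Subgroup G) := inf_le_left
  have hU9 : Nat.card U ≤ 9 := (card_le_nine (hP.to_le hUP) h4 (C.card.trans_le h4)
    (fun q hq => hq.2) (fun q hq => (C.mem_setStab_iff.2 hq).2)
    (htriv (hP.to_le hUP))).1
  have htt : t ^ 3 = 1 := by rw [← ht, pow_orderOf_eq_one]
  have htU : t ∈ U := ⟨htP, smul_fixedBy_of_commute (Commute.refl t)⟩
  -- an element fixing the companion set
  obtain ⟨e₀, he₀, he₀1⟩ : ∃ e ∈ ptStab (P : Subgroup G) Ψ, e ≠ 1 := by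
    have h1 := C.card_pt.symm ▸ M.one_lt_card
    by_contra h
    push Not at h
    rw [show ptStab (P : Subgroup G) Ψ = ⊥ from eq_bot_iff.2 fun x hx => mem_bot.2 (h x hx),
      card_bot] at h1
    omega
  obtain ⟨k, hk⟩ := exists_pow_prime hP he₀.1 he₀1
  set e := e₀ ^ k with he
  have heE : e ∈ ptStab (P : Subgroup G) Ψ := pow_mem he₀ k
  have he1 : e ≠ 1 := ne_one_of_orderOf_eq_prime Nat.prime_three hk
  have heU : e ∈ U := C.ptStab_le' heE
  have heΨ : fixedBy Ω e = Ψ := M'.fix_eq heE he1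
  have hte : Commute e t := (C.commute ⟨htP, mem_pw.2 subset_rfl⟩ heE).symm
  obtain ⟨a, haΦ, hea⟩ : ∃ a ∈ Φ, e • a ≠ a := by
    by_contra h
    push Not at h
    exact he1 (htriv hP e heE.1 h (mem_pw.1 heE.2))
  have hnr : ∀ u : G, u * t * u⁻¹ ≠ t⁻¹ :=
    not_real_of_cycle hf0 ht h4 (by rw [← hk, pow_orderOf_eq_one]) hte haΦ hea
  -- a central element of order three
  obtain ⟨z, hzP, hzo, hzc⟩ : ∃ z ∈ (P : Subgroup G), orderOf z = 3 ∧
      ∀ x ∈ (P : Subgroup G), Commute x z := by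
    haveI : Nontrivial (P : Subgroup G) := nontrivial_iff.2
      ⟨⟨t, htP⟩, 1, fun h => ne_one_of_orderOf_eq_prime Nat.prime_three ht (congrArg Subtype.val h)⟩
    haveI := hP.center_nontrivial
    obtain ⟨c, hc1⟩ := exists_ne (1 : center (P : Subgroup G))
    have hcP : ((c : (P : Subgroup G)) : G) ∈ (P : Subgroup G) := (c : (P : Subgroup G)).2
    obtain ⟨l, hl⟩ := exists_pow_prime hP hcP fun h => hc1 (Subtype.ext (Subtype.ext h))
    refine ⟨_, pow_mem hcP l, hl, fun x hx => Commute.pow_right ?_ l⟩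
    exact congrArg Subtype.val (mem_center_iff.1 c.2 ⟨x, hx⟩)
  have hz3 : z ^ 3 = 1 := by rw [← hzo, pow_orderOf_eq_one]
  have htz : Commute t z := hzc t htP
  have hzU : z ∈ U := ⟨hzP, smul_fixedBy_of_commute htz.symm⟩
  obtain ⟨s₀, hs₀P, hs₀⟩ := hmov
  have hztn : ∀ {w : G}, w ∈ zpowers z → ∀ x ∈ (P : Subgroup G), Commute x w := by
    intro w hw x hx
    obtain ⟨i, rfl⟩ := mem_zpowers_iff.1 hw
    exact (hzc x hx).zpow_right i
  have htnz : t ∉ zpowers z := fun h => hs₀ (smul_fixedBy_of_commute (hztn h s₀ hs₀P))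
  have hznt : z ∉ zpowers t := by
    intro h
    refine htnz ?_
    have hne : (⟨z, h⟩ : zpowers t) ≠ 1 := fun e' =>
      ne_one_of_orderOf_eq_prime Nat.prime_three hzo (congrArg Subtype.val e')
    obtain ⟨i, hi⟩ := mem_zpowers_iff.1 (mem_zpowers_of_prime_card (p := 3)
      (by rw [Nat.card_zpowers, ht]) hne : (⟨t, mem_zpowers t⟩ : zpowers t) ∈ zpowers ⟨z, h⟩)
    exact mem_zpowers_iff.2 ⟨i, by simpa using congrArg Subtype.val hi⟩
  obtain ⟨s, hsP, hsU, hsN⟩ := exists_normalizing hP hUP ⟨s₀, hs₀P, fun h => hs₀ h.2⟩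
  have hst : ¬ Commute s t := fun h => hsU ⟨hsP, smul_fixedBy_of_commute h⟩
  obtain ⟨i, j, hi, hj, hij⟩ := span_pair hU9 htU hzU ht htz hznt hz3
    ((mem_normalizer_iff.1 hsN t).1 htU)
  obtain ⟨s₁, hs₁z, hs₁t⟩ := exists_transvection (odd_orderOf_of_three hP hsP) htt hz3 (hzc s hsP)
    htz hst hi hj hij
  -- 3-subgroups centralizing `t`
  have hcent : ∀ R : Subgroup G, IsPGroup 3 R → (∀ r ∈ R, Commute r t) → Nat.card R ≤ 9 := by
    have hUC : U ≤ centralizer ({t} : Set G) := by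
      intro u hu
      obtain ⟨i, j, -, -, rfl⟩ := span_pair hU9 htU hzU ht htz hznt hz3 hu
      exact mem_centralizer_singleton_iff.2
        (((Commute.refl t).pow_left i).mul_left (htz.symm.pow_left j)).eq
    obtain ⟨Q₀, hQ₀⟩ := ((hP.to_le hUP).comap_of_injective (centralizer ({t} : Set G)).subtype
      Subtype.val_injective).exists_le_sylow
    set Q := (Q₀ : Subgroup (centralizer ({t} : Set G))).map (centralizer ({t} : Set G)).subtype
      with hQdef
    have hQ : IsPGroup 3 Q := Q₀.2.map _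
    have hUQ : U ≤ Q := fun u hu => ⟨⟨u, hUC hu⟩, hQ₀ hu, rfl⟩
    have hQU : Q ≤ U := by
      by_contra hle
      obtain ⟨s', hs'Q, hs'U, hs'N⟩ := exists_normalizing hQ hUQ (SetLike.not_le_iff_exists.1 hle)
      have hs't : Commute s' t := by
        obtain ⟨c, -, rfl⟩ := hs'Q
        exact mem_centralizer_singleton_iff.1 c.2
      by_cases hs'z : Commute s' z
      · -- centralizing the whole group
        have hs'e : Commute s' e := by
          obtain ⟨i, j, -, -, hee⟩ := span_pair hU9 htU hzU ht htz hznt hz3 heU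
          rw [hee]
          exact (hs't.pow_right i).mul_right (hs'z.pow_right j)
        set R := U ⊔ zpowers s' with hR
        have hRQ : R ≤ Q := sup_le hUQ (zpowers_le.2 hs'Q)
        have hR1 : R ≤ stabilizer G Φ := sup_le (fun u hu => hu.2)
          (zpowers_le.2 (mem_stabilizer_iff.2 (smul_fixedBy_of_commute hs't)))
        have hR2 : R ≤ stabilizer G Ψ := sup_le (fun u hu => (C.mem_setStab_iff.2 hu).2)
          (zpowers_le.2 (mem_stabilizer_iff.2 (heΨ ▸ smul_fixedBy_of_commute hs'e)))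
        have h9 := (card_le_nine (hQ.to_le hRQ) h4 (C.card.trans_le h4)
          (fun q hq => hR1 hq) (fun q hq => hR2 hq) (htriv (hQ.to_le hRQ))).1
        obtain ⟨l, hl⟩ := IsPGroup.iff_card.1 (hQ.to_le hRQ)
        obtain ⟨m, hm⟩ := IsPGroup.iff_card.1 (hP.to_le hUP)
        have hlt : Nat.card U < Nat.card R :=
          lt_of_le_of_ne (card_le_of_le le_sup_left) fun h => hs'U
            ((eq_of_le_of_card_ge (le_sup_left : U ≤ R) h.ge).symm ▸
              (le_sup_right : zpowers s' ≤ R) (mem_zpowers s'))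
        have hU3 : 3 < Nat.card U := by
          by_contra h3
          push Not at h3
          have hle' : zpowers t ≤ U := zpowers_le.2 htU
          have := eq_of_le_of_card_ge hle' (by rw [Nat.card_zpowers, ht]; exact h3)
          exact hznt (this.symm ▸ hzU)
        rw [hl, hm] at hlt
        rw [hm] at hU3
        rw [hl] at h9
        have := (Nat.pow_lt_pow_iff_right (show 1 < 3 by norm_num)).1 hlt
        have := (Nat.pow_lt_pow_iff_right (show 1 < 3 by norm_num)).1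
          (show (3 : ℕ) ^ 1 < 3 ^ m by rw [pow_one]; exact hU3)
        have : (3 : ℕ) ^ 3 ≤ 3 ^ l := Nat.pow_le_pow_right (by norm_num) (by omega)
        omega
      · have hti : t⁻¹ ∈ U := inv_mem htU
        have hn : t⁻¹ ∉ zpowers z := fun h => htnz (inv_mem_iff.1 h)
        have ht3 : t⁻¹ ^ 3 = 1 := by rw [inv_pow, htt, inv_one]
        obtain ⟨i, j, hi, hj, hij⟩ := span_pair hU9 hzU hti hzo htz.symm.inv_right hn ht3
          ((mem_normalizer_iff.1 hs'N z).1 hzU)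
        obtain ⟨s₂, hs₂t, hs₂z⟩ := exists_transvection (odd_orderOf_of_three hQ hs'Q) hz3 ht3
          hs't.inv_right htz.symm.inv_right hs'z hi hj hij
        have h2t : s₂ * t * s₂⁻¹ = t := by
          rw [(Commute.inv_right_iff.1 hs₂t).eq, mul_inv_cancel_right]
        have h1z : s₁ * z * s₁⁻¹ = z := by rw [hs₁z.eq, mul_inv_cancel_right]
        set w := s₁ * s₂ * s₁ with hw
        have hwt : w * t * w⁻¹ = z := by
          calc w * t * w⁻¹ = s₁ * (s₂ * (s₁ * t * s₁⁻¹) * s₂⁻¹) * s₁⁻¹ := by rw [hw]; group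
            _ = s₁ * ((s₂ * t * s₂⁻¹) * (s₂ * z * s₂⁻¹)) * s₁⁻¹ := by rw [hs₁t]; group
            _ = s₁ * (t * (z * t⁻¹)) * s₁⁻¹ := by rw [h2t, hs₂z]
            _ = z := by rw [← mul_assoc t, htz.eq, mul_inv_cancel_right, h1z]
        have hwz : w * z * w⁻¹ = t⁻¹ := by
          calc w * z * w⁻¹ = s₁ * (s₂ * (s₁ * z * s₁⁻¹) * s₂⁻¹) * s₁⁻¹ := by rw [hw]; group
            _ = s₁ * (z * t⁻¹) * s₁⁻¹ := by rw [h1z, hs₂z]
            _ = (s₁ * z * s₁⁻¹) * (s₁ * t * s₁⁻¹)⁻¹ := by group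
            _ = t⁻¹ := by rw [h1z, hs₁t, mul_inv_rev, mul_inv_cancel_left]
        refine hnr (w * w) ?_
        calc w * w * t * (w * w)⁻¹ = w * (w * t * w⁻¹) * w⁻¹ := by group
          _ = t⁻¹ := by rw [hwt, hwz]
    intro R hR hRt
    have hRC : R ≤ centralizer ({t} : Set G) := fun r hr =>
      mem_centralizer_singleton_iff.2 (hRt r hr).eq
    obtain ⟨R₀, hR₀⟩ := (hR.comap_of_injective (centralizer ({t} : Set G)).subtype
      Subtype.val_injective).exists_le_sylow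
    calc Nat.card R = Nat.card (R.subgroupOf (centralizer ({t} : Set G))) :=
          (Nat.card_congr (subgroupOfEquivOfLe hRC).toEquiv).symm
      _ ≤ Nat.card (R₀ : Subgroup (centralizer ({t} : Set G))) := card_le_of_le hR₀
      _ = Nat.card (Q₀ : Subgroup (centralizer ({t} : Set G))) := Nat.card_congr (R₀.equiv Q₀).toEquiv
      _ = Nat.card Q := (card_map_of_injective Subtype.val_injective).symm
      _ ≤ Nat.card U := card_le_of_le hQU
      _ ≤ 9 := hU9
  have h27 : 27 ≤ Nat.card (P : Subgroup G) := by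
    obtain ⟨l, hl⟩ := IsPGroup.iff_card.1 hP
    obtain ⟨m, hm⟩ := IsPGroup.iff_card.1 (hP.to_le hUP)
    have hlt : Nat.card U < Nat.card (P : Subgroup G) :=
      lt_of_le_of_ne (card_le_of_le hUP) fun h => hs₀
        ((eq_of_le_of_card_ge hUP h.ge).symm ▸ hs₀P : s₀ ∈ U).2
    have h9 : 3 ^ 2 ≤ Nat.card U := by
      by_contra h
      push Not at h
      have hm1 : m ≤ 1 := by
        have := (Nat.pow_lt_pow_iff_right (show 1 < 3 by norm_num)).1 (hm ▸ h)
        omega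
      have h3 : Nat.card U ≤ 3 := hm ▸ (Nat.pow_le_pow_right (by norm_num) hm1).trans_eq (pow_one 3)
      have := eq_of_le_of_card_ge (zpowers_le.2 htU : zpowers t ≤ U)
        (by rw [Nat.card_zpowers, ht]; exact h3)
      exact hznt (this.symm ▸ hzU)
    rw [hl] at hlt ⊢
    rw [hm] at hlt h9
    have := (Nat.pow_lt_pow_iff_right (show 1 < 3 by norm_num)).1 hlt
    have := (Nat.pow_le_pow_iff_right (show 1 < 3 by norm_num)).1 h9
    calc 27 = 3 ^ 3 := by norm_num
      _ ≤ 3 ^ l := Nat.pow_le_pow_right (by norm_num) (by omega)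
  refine card_eq_of_small_centralizers hna (P : Subgroup G) hP P.not_dvd_index ⟨t, htP⟩
    (by rw [Subgroup.orderOf_mk, ht]) (fun y hy => ?_) hnr h27
  -- centralizers of the conjugates
  obtain ⟨h, hh⟩ := isConj_iff.1 hy
  have hle : Nat.card (centralizer ({y} : Set (P : Subgroup G))) ≤ 9 := by
    set R := (centralizer ({y} : Set (P : Subgroup G))).map
      ((MulAut.conj h⁻¹).toMonoidHom.comp (P : Subgroup G).subtype) with hR
    have e : Nat.card R = Nat.card (centralizer ({y} : Set (P : Subgroup G))) :=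
      card_map_of_injective ((MulAut.conj h⁻¹).injective.comp Subtype.val_injective)
    rw [← e]
    refine hcent R ((hP.to_subgroup _).map _) ?_
    rintro _ ⟨c, hc, rfl⟩
    have hcy : Commute (c : G) (y : G) := congrArg Subtype.val (mem_centralizer_singleton_iff.1 hc)
    have := hcy.map (MulAut.conj h⁻¹).toMonoidHom
    have ey : (MulAut.conj h⁻¹).toMonoidHom (y : G) = t := by
      show h⁻¹ * (y : G) * h⁻¹⁻¹ = t
      rw [← hh]
      group
    rw [ey] at this
    exact this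
  have hyc : (y : G) ∉ zpowers z := by
    intro hyz
    have htop : centralizer ({y} : Set (P : Subgroup G)) = ⊤ := eq_top_iff.2 fun x _ =>
      mem_centralizer_singleton_iff.2 (Subtype.ext (hztn hyz x x.2).eq)
    rw [htop, Subgroup.card_top] at hle
    omega
  set W := zpowers (⟨z, hzP⟩ : (P : Subgroup G)) with hW
  have hlt : W < centralizer ({y} : Set (P : Subgroup G)) := by
    refine lt_of_le_of_ne (zpowers_le.2 (mem_centralizer_singleton_iff.2
      (Subtype.ext (hzc y y.2).symm.eq))) fun e => hyc ?_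
    have hyW : y ∈ W := e.symm ▸ mem_centralizer_singleton_iff.2 rfl
    obtain ⟨i, hi⟩ := mem_zpowers_iff.1 hyW
    exact mem_zpowers_iff.2 ⟨i, by rw [← hi]; rfl⟩
  have hWc : Nat.card W = 3 := by rw [hW, Nat.card_zpowers, Subgroup.orderOf_mk, hzo]
  have hlt' : 3 < Nat.card (centralizer ({y} : Set (P : Subgroup G))) :=
    lt_of_eq_of_lt hWc.symm
      (lt_of_le_of_ne (card_le_of_le hlt.le) fun e => hlt.ne (eq_of_le_of_card_ge hlt.le e.ge))
  obtain ⟨l, hl⟩ := IsPGroup.iff_card.1 (hP.to_subgroup (centralizer ({y} : Set (P : Subgroup G))))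
  rw [hl] at hle hlt' ⊢
  have := (Nat.pow_le_pow_iff_right (show 1 < 3 by norm_num)).1 (show (3 : ℕ) ^ l ≤ 3 ^ 2 by omega)
  have := (Nat.pow_lt_pow_iff_right (show 1 < 3 by norm_num)).1 (show (3 : ℕ) ^ 1 < 3 ^ l by omega)
  rw [show l = 2 by omega]
  norm_num

end CfsgLib.Perm.FixityFour
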