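import Cfsg.Agent.Lib.Perm.FixityFour.ThreeLocal
import Cfsg.Agent.Lib.PGroup.GenExtraspecialSplit

/-!
# Simple groups of fixity four: point stabilizers of odd order divisible by three
-/

set_option autoImplicit false
set_option linter.unusedSectionVars false
set_option linter.style.haveILetI false

open MulAction Subgroup
open scoped Pointwise

namespace CfsgLib.Perm.FixityFour

variable {G Ω : Type*} [Group G] [MulAction G Ω] [Finite G] [Finite Ω]

theorem stronglyThreeEmbedded_of_exact [IsPretransitive G Ω]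
    (hfaith : ∀ g : G, (∀ ω : Ω, g • ω = ω) → g = 1) {t : G} (ht : orderOf t = 3)
    (hne : (fixedBy Ω t).Nonempty)
    (hex : ∀ u : G, orderOf u = 3 → u • fixedBy Ω t = fixedBy Ω t → fixedBy Ω u = fixedBy Ω t) :
    ∃ H : Subgroup G, H ≠ ⊤ ∧ 3 ∣ Nat.card H ∧
      ∀ g : G, g ∉ H → ¬ 3 ∣ Nat.card ↥(H ⊓ H.map (MulAut.conj g).toMonoidHom) := by
  haveI : Fact (Nat.Prime 3) := ⟨Nat.prime_three⟩
  set Φ := fixedBy Ω t with hΦ
  refine ⟨stabilizer G Φ, fun hH => ?_, ?_, fun g hg hdvd => ?_⟩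
  · obtain ⟨a, ha⟩ := hne
    refine ne_one_of_orderOf_eq_prime Nat.prime_three ht (hfaith t fun ω => ?_)
    obtain ⟨g, rfl⟩ := exists_smul_eq G a ω
    have hgΦ : g • Φ = Φ := mem_stabilizer_iff.1 (hH ▸ mem_top g)
    have hmem : g • a ∈ Φ := by
      rw [← hgΦ]
      exact Set.smul_mem_smul_set ha
    exact hmem
  · rw [← ht]
    exact orderOf_dvd_natCard _ (mem_stabilizer_iff.2 (smul_fixedBy_of_commute (Commute.refl t)))
  · obtain ⟨⟨u, hu, hu'⟩, huo⟩ := exists_prime_orderOf_dvd_card' 3 hdvd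
    replace huo : orderOf u = 3 := (Subgroup.orderOf_coe _).trans huo
    obtain ⟨w, hw, rfl⟩ := hu'
    have hwo : orderOf w = 3 := by
      rw [← huo]
      exact (orderOf_injective (MulAut.conj g).toMonoidHom (MulAut.conj g).injective w).symm
    have h1 := hex _ huo hu
    have h2 := hex w hwo hw
    refine hg (mem_stabilizer_iff.2 ?_)
    rw [← h2, smul_fixedBy_eq]
    exact h1.trans h2.symm

/-- The shape of a Sylow 3-subgroup, or a strongly 3-embedded subgroup. -/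
theorem cases_of_three [IsSimpleGroup G] [IsPretransitive G Ω] (hna : ¬ IsMulCommutative G)
    (hbd : AtMostFour G Ω) (hfaith : ∀ g : G, (∀ ω : Ω, g • ω = ω) → g = 1)
    (hf0 : ∀ v : G, orderOf v = 2 → fixedBy Ω v = ∅) (P : Sylow 3 G)
    (h3 : ∃ u : G, orderOf u = 3 ∧ (fixedBy Ω u).Nonempty) :
    (∃ H : Subgroup G, H ≠ ⊤ ∧ 3 ∣ Nat.card H ∧
      ∀ g : G, g ∉ H → ¬ 3 ∣ Nat.card ↥(H ⊓ H.map (MulAut.conj g).toMonoidHom)) ∨
    (Nat.card P = 9 ∧ ∀ x ∈ (P : Subgroup G), x ^ 3 = 1) ∨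
    (Nat.card P = 27 ∧ Cfsg.IsExtraspecial 3 (P : Subgroup G) ∧
      ∀ x ∈ (P : Subgroup G), x ^ 3 = 1) := by
  classical
  haveI : Fact (Nat.Prime 3) := ⟨Nat.prime_three⟩
  have hP : IsPGroup 3 (P : Subgroup G) := P.2
  obtain ⟨u₀, hu₀, hu₀ne⟩ := h3
  obtain ⟨t₀, ht₀, hmax⟩ := Set.exists_max_image {u : G | orderOf u = 3}
    (fun u => (fixedBy Ω u).ncard) (Set.toFinite _) ⟨u₀, hu₀⟩
  obtain ⟨g, hg⟩ := CfsgLib.Invol.exists_conj_le_sylow (IsPGroup.of_card (n := 1)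
    (by rw [Nat.card_zpowers, ht₀, pow_one]) : IsPGroup 3 (zpowers t₀)) P
  set t := g * t₀ * g⁻¹ with htdef
  have htP : t ∈ (P : Subgroup G) := hg t₀ (mem_zpowers t₀)
  have ht : orderOf t = 3 :=
    (orderOf_injective (MulAut.conj g).toMonoidHom (MulAut.conj g).injective t₀).trans ht₀
  set Φ := fixedBy Ω t with hΦ
  have hmaxt : ∀ u : G, orderOf u = 3 → (fixedBy Ω u).ncard ≤ Φ.ncard := fun u hu => by
    rw [hΦ, htdef, fixedBy_conj_ncard]
    exact hmax u hu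
  have hpos : 0 < Φ.ncard := lt_of_lt_of_le ((Set.ncard_pos).2 hu₀ne) (hmaxt u₀ hu₀)
  have hne : Φ.Nonempty := (Set.ncard_pos).1 hpos
  have h4 : Φ.ncard ≤ 4 := hbd t (ne_one_of_orderOf_eq_prime Nat.prime_three ht)
  have heq : ∀ u : G, orderOf u = 3 → Φ ⊆ fixedBy Ω u → fixedBy Ω u = Φ := fun u hu h =>
    (Set.eq_of_subset_of_ncard_le h (hmaxt u hu)).symm
  -- few points
  by_cases hg2 : Φ.ncard ≤ 2
  · refine Or.inl (stronglyThreeEmbedded_of_exact hfaith ht hne fun u hu hst => heq u hu fun a ha => ?_)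
    by_contra hua
    obtain ⟨hsub, hc⟩ := three_le_of_moved (by rw [← hu, pow_orderOf_eq_one]) hst ha hua
    have := Set.ncard_le_ncard hsub
    rw [hc] at this
    exact absurd (this.trans hg2) (by norm_num)
  -- a moved set
  by_cases hmov : ∃ x ∈ (P : Subgroup G), orderOf x = 3 ∧ (fixedBy Ω x).ncard = Φ.ncard ∧
      ∃ s ∈ (P : Subgroup G), s • fixedBy Ω x ≠ fixedBy Ω x
  · obtain ⟨x, hxP, hx, hxc, hs⟩ := hmov
    obtain ⟨h27, hexp, a, b, hab⟩ :=
      card_eq_of_moved hna hbd hf0 P hxP hx (fun u hu => hxc ▸ hmaxt u hu) hs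
    exact Or.inr (Or.inr ⟨h27, CfsgLib.GenExtraspecial.isExtraspecial_of_cube
      (p := 3) (h27.trans (by norm_num)) hab hexp,
      fun x hx => congrArg Subtype.val (hexp ⟨x, hx⟩)⟩)
  push Not at hmov
  have hstab : ∀ s ∈ (P : Subgroup G), s • Φ = Φ := hmov t htP ht rfl
  by_cases hA : ∃ x ∈ (P : Subgroup G), orderOf x = 3 ∧ ¬ fixedBy Ω x ⊆ Φ
  · obtain ⟨x, hxP, hx, hxΦ⟩ := hA
    obtain ⟨ω, hωx, hωΦ⟩ := Set.not_subset.1 hxΦ
    have hx3 : x ^ 3 = 1 := by rw [← hx, pow_orderOf_eq_one]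
    have hxc : (fixedBy Ω x).ncard = Φ.ncard := by
      refine le_antisymm (hmaxt x hx) (not_lt.1 fun hlt => ?_)
      have hmod : Nat.card Ω ≡ (fixedBy Ω x).ncard [MOD 3] := ncard_fixedBy_modEq hx
      have hmod' : Nat.card Ω ≡ Φ.ncard [MOD 3] := ncard_fixedBy_modEq ht
      unfold Nat.ModEq at hmod hmod'
      have hx1 : 0 < (fixedBy Ω x).ncard := (Set.ncard_pos).2 ⟨ω, hωx⟩
      obtain ⟨a, ha⟩ := Set.ncard_eq_one.1 (show (fixedBy Ω x).ncard = 1 by omega)
      have hfree : ∀ d ∈ zpowers x, ∀ b ∈ Φ, d • b = b → d = 1 := by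
        intro d hd b hb hdb
        by_contra hd1
        have hne' : (⟨d, hd⟩ : zpowers x) ≠ 1 := fun e => hd1 (congrArg Subtype.val e)
        obtain ⟨i, hi⟩ := mem_zpowers_iff.1 (mem_zpowers_of_prime_card (p := 3)
          (by rw [Nat.card_zpowers, hx]) hne' :
          (⟨x, mem_zpowers x⟩ : zpowers x) ∈ zpowers ⟨d, hd⟩)
        have hxb : x ∈ stabilizer G b := by
          rw [show x = d ^ i from (congrArg Subtype.val hi).symm]
          exact zpow_mem (mem_stabilizer_iff.2 hdb) i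
        have hb' : b ∈ fixedBy Ω x := hxb
        rw [ha] at hωx hb'
        exact hωΦ (((hωx : ω = a).trans (hb' : b = a).symm) ▸ hb)
      have hdvd := card_dvd_of_semiregular (D := zpowers x) (A := Φ) (fun d hd b hb => by
        rw [← hstab d (zpowers_le.2 hxP hd)]
        exact Set.smul_mem_smul_set hb) hfree
      rw [Nat.card_zpowers, hx] at hdvd
      omega
    obtain ⟨h9, hexp⟩ := card_le_nine hP h4 (hxc.trans_le h4) hstab (hmov x hxP hx hxc)
      fun q hq h1 h2 => by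
        by_contra hq1
        obtain ⟨k, hk⟩ := exists_pow_prime hP hq hq1
        have hsub : Φ ∪ fixedBy Ω x ⊆ fixedBy Ω (q ^ k) :=
          (Set.union_subset h1 h2).trans (fixedBy_subset_pow q k)
        have hlt : Φ.ncard < (Φ ∪ fixedBy Ω x).ncard :=
          Set.ncard_lt_ncard (ssubset_of_subset_of_ne Set.subset_union_left fun h => hxΦ
            (h ▸ Set.subset_union_right))
        have := (Set.ncard_le_ncard hsub).trans (hmaxt _ hk)
        omega
    refine Or.inr (Or.inl ⟨?_, hexp⟩)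
    have hle : zpowers t ≤ (P : Subgroup G) := zpowers_le.2 htP
    have hlt : Nat.card (zpowers t) < Nat.card (P : Subgroup G) :=
      lt_of_le_of_ne (card_le_of_le hle) fun h => by
        have hxt : x ∈ zpowers t := (eq_of_le_of_card_ge hle h.ge).symm ▸ hxP
        have hne' : (⟨x, hxt⟩ : zpowers t) ≠ 1 := fun e =>
          ne_one_of_orderOf_eq_prime Nat.prime_three hx (congrArg Subtype.val e)
        obtain ⟨i, hi⟩ := mem_zpowers_iff.1 (mem_zpowers_of_prime_card (p := 3)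
          (by rw [Nat.card_zpowers, ht]) hne' : (⟨t, mem_zpowers t⟩ : zpowers t) ∈ zpowers ⟨x, hxt⟩)
        have htω : t ∈ stabilizer G ω := by
          rw [show t = x ^ i from (congrArg Subtype.val hi).symm]
          exact zpow_mem (mem_stabilizer_iff.2 hωx) i
        exact hωΦ htω
    rw [Nat.card_zpowers, ht] at hlt
    obtain ⟨l, hl⟩ := IsPGroup.iff_card.1 hP
    rw [hl] at h9 hlt
    have := (Nat.pow_le_pow_iff_right (show 1 < 3 by norm_num)).1 (show (3 : ℕ) ^ l ≤ 3 ^ 2 by omega)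
    have := (Nat.pow_lt_pow_iff_right (show 1 < 3 by norm_num)).1 (show (3 : ℕ) ^ 1 < 3 ^ l by omega)
    show Nat.card (P : Subgroup G) = 9
    rw [hl, show l = 2 by omega]
    norm_num
  push Not at hA
  have hPH : (P : Subgroup G) ≤ stabilizer G Φ := fun s hs => mem_stabilizer_iff.2 (hstab s hs)
  by_cases hall : ∀ x ∈ (P : Subgroup G), orderOf x = 3 → Φ ⊆ fixedBy Ω x
  · refine Or.inl (stronglyThreeEmbedded_of_exact hfaith ht hne fun u hu hst => heq u hu ?_)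
    have hQ : IsPGroup 3 (zpowers (⟨u, mem_stabilizer_iff.2 hst⟩ : stabilizer G Φ)) :=
      IsPGroup.of_card (n := 1) (by rw [Nat.card_zpowers, Subgroup.orderOf_mk, hu, pow_one])
    obtain ⟨⟨h, hh⟩, hconj⟩ := CfsgLib.Invol.exists_conj_le_sylow hQ (P.subtype hPH)
    have hmem : h * u * h⁻¹ ∈ (P : Subgroup G) := hconj _ (mem_zpowers _)
    have ho : orderOf (h * u * h⁻¹) = 3 :=
      (orderOf_injective (MulAut.conj h).toMonoidHom (MulAut.conj h).injective u).trans hu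
    have := Set.smul_set_mono (a := h⁻¹) (hall _ hmem ho)
    rw [← smul_fixedBy_eq, inv_smul_smul, inv_smul_eq_iff.2 (mem_stabilizer_iff.1 hh).symm] at this
    exact this
  -- a 3-cycle on the set is impossible
  exfalso
  push Not at hall
  obtain ⟨x, hxP, hx, hxΦ⟩ := hall
  obtain ⟨b, hb, hxb⟩ := Set.not_subset.1 hxΦ
  have hx3 : x ^ 3 = 1 := by rw [← hx, pow_orderOf_eq_one]
  -- elements with full fixed point sets in one 3-subgroup share them
  have hshare : ∀ R : Subgroup G, IsPGroup 3 R → ∀ u ∈ R, ∀ w ∈ R, orderOf u = 3 → orderOf w = 3 →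
      (fixedBy Ω u).ncard = Φ.ncard → (fixedBy Ω w).ncard = Φ.ncard →
      fixedBy Ω u = fixedBy Ω w := by
    intro R hR u hu w hw huo hwo huc hwc
    obtain ⟨k, hk⟩ := CfsgLib.Invol.exists_conj_le_sylow hR P
    have hfix : ∀ v ∈ R, orderOf v = 3 → (fixedBy Ω v).ncard = Φ.ncard →
        k • fixedBy Ω v = Φ := by
      intro v hv hvo hvc
      rw [smul_fixedBy_eq]
      exact Set.eq_of_subset_of_ncard_le (hA _ (hk v hv)
        ((orderOf_injective (MulAut.conj k).toMonoidHom (MulAut.conj k).injective v).trans hvo))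
        (le_of_eq (hvc.symm.trans (fixedBy_conj_ncard k v).symm))
    exact smul_left_cancel k ((hfix u hu huo huc).trans (hfix w hw hwo hwc).symm)
  let θ₀ : (P : Subgroup G) →* Equiv.Perm Φ := (res Φ).comp (Subgroup.inclusion hPH)
  have hker : ∀ y : (P : Subgroup G), θ₀ y = 1 ↔ Φ ⊆ fixedBy Ω (y : G) := fun y =>
    res_eq_one.trans mem_pw
  have hθx : θ₀ ⟨x, hxP⟩ ≠ 1 := fun h => hxb ((hker _).1 h hb)
  have hcard : Nat.card θ₀.range = 3 := by
    obtain ⟨l, hl⟩ := IsPGroup.iff_card.1 (hP.of_surjective θ₀.rangeRestrict θ₀.rangeRestrict_surjective)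
    have h24 : Nat.card θ₀.range ∣ 24 := by
      refine (card_subgroup_dvd_card _).trans ?_
      rw [Nat.card_perm, Nat.card_coe_set_eq]
      exact (Nat.factorial_dvd_factorial h4).trans (by decide)
    have hle := pow_three_le_three (hl ▸ h24)
    have h1 : 1 < Nat.card θ₀.range := (one_lt_card_iff_ne_bot _).2 fun h => hθx (by
      have : θ₀ ⟨x, hxP⟩ ∈ θ₀.range := ⟨_, rfl⟩
      rwa [h, mem_bot] at this)
    rw [hl] at h1 ⊢
    rcases Nat.eq_zero_or_pos l with rfl | hl0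
    · norm_num at h1
    · exact le_antisymm hle (Nat.le_self_pow hl0.ne' 3)
  haveI : IsCyclic θ₀.range := isCyclic_of_prime_card hcard
  letI : CommGroup θ₀.range := IsCyclic.commGroup
  refine false_of_constant hna (P : Subgroup G) P.not_dvd_index ⟨x, hxP⟩
    (by rw [Subgroup.orderOf_mk, hx]) θ₀.rangeRestrict
    (fun h => hθx (congrArg Subtype.val h)) fun y hy => Subtype.ext ?_
  show θ₀ y = θ₀ ⟨x, hxP⟩
  obtain ⟨h, hh⟩ := isConj_iff.1 hy
  have hxc : (fixedBy Ω x).ncard < Φ.ncard :=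
    Set.ncard_lt_ncard (ssubset_of_subset_of_ne (hA x hxP hx) fun e => hxΦ e.ge)
  have hyo : orderOf (y : G) = 3 := by
    rw [← hh]
    exact (orderOf_injective (MulAut.conj h).toMonoidHom (MulAut.conj h).injective x).trans hx
  have hy1 : θ₀ y ≠ 1 := fun e => by
    have h1 : fixedBy Ω (h * x * h⁻¹) = Φ := hh.symm ▸ heq _ hyo ((hker y).1 e)
    have h2 : (fixedBy Ω x).ncard = Φ.ncard := by rw [← fixedBy_conj_ncard h x, h1]
    omega
  by_contra hne'
  have hord : orderOf (θ₀ ⟨x, hxP⟩) = 3 := orderOf_eq_prime (by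
    rw [← map_pow, show (⟨x, hxP⟩ : (P : Subgroup G)) ^ 3 = 1 from Subtype.ext hx3, map_one]) hθx
  have hinv : θ₀ y = (θ₀ ⟨x, hxP⟩)⁻¹ := by
    have hxm : θ₀.rangeRestrict ⟨x, hxP⟩ ≠ 1 := fun e => hθx (congrArg Subtype.val e)
    obtain ⟨i, hi⟩ := mem_zpowers_iff.1 (mem_zpowers_of_prime_card hcard hxm :
      θ₀.rangeRestrict y ∈ zpowers (θ₀.rangeRestrict ⟨x, hxP⟩))
    have hi' : θ₀ ⟨x, hxP⟩ ^ i = θ₀ y := by
      have := congrArg Subtype.val hi
      rwa [SubgroupClass.coe_zpow] at this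
    have h3' : θ₀ ⟨x, hxP⟩ ^ (3 : ℤ) = 1 := by
      rw [show (3 : ℤ) = ((3 : ℕ) : ℤ) from rfl, zpow_natCast]
      exact orderOf_dvd_iff_pow_eq_one.1 (dvd_of_eq hord)
    rw [← Int.mul_ediv_add_emod i 3, zpow_add, zpow_mul, h3', one_zpow, one_mul] at hi'
    rcases (show i % 3 = 0 ∨ i % 3 = 1 ∨ i % 3 = 2 by omega) with e | e | e
    · rw [e, zpow_zero] at hi'
      exact absurd hi'.symm hy1
    · rw [e, zpow_one] at hi'
      exact absurd hi'.symm hne'
    · rw [← hi', e, eq_inv_iff_mul_eq_one, ← zpow_add_one]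
      exact h3'
  -- a central element with full fixed point set
  obtain ⟨z, hzP, hzo, hzc, hzΦ⟩ : ∃ z ∈ (P : Subgroup G), orderOf z = 3 ∧
      (∀ v ∈ (P : Subgroup G), Commute v z) ∧ fixedBy Ω z = Φ := by
    haveI := hP.isNilpotent
    have hkne : θ₀.ker ≠ ⊥ := fun e => by
      have h1 : (⟨t, htP⟩ : (P : Subgroup G)) ∈ θ₀.ker := MonoidHom.mem_ker.2 ((hker _).2 subset_rfl)
      rw [e, mem_bot] at h1
      exact ne_one_of_orderOf_eq_prime Nat.prime_three ht (congrArg Subtype.val h1)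
    obtain ⟨c, hc, hc1⟩ := (Subgroup.bot_or_exists_ne_one _).resolve_left
      (CfsgLib.Coprime.nilpotent_inf_center_ne_bot θ₀.ker hkne)
    obtain ⟨l, hl⟩ := exists_pow_prime hP c.2 fun e => hc1 (Subtype.ext e)
    exact ⟨_, pow_mem c.2 l, hl,
      fun v hv => Commute.pow_right (congrArg Subtype.val (mem_center_iff.1 hc.2 ⟨v, hv⟩)) l,
      heq _ hl (((hker c).1 (MonoidHom.mem_ker.1 hc.1)).trans (fixedBy_subset_pow _ l))⟩
  set z' := h⁻¹ * z * h with hz'
  have hz'fix : h • fixedBy Ω z' = Φ := by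
    rw [smul_fixedBy_eq, ← hzΦ]
    congr 1
    rw [hz']; group
  have hz'o : orderOf z' = 3 := by
    rw [hz', ← hzo]
    simpa using orderOf_injective (MulAut.conj h⁻¹).toMonoidHom (MulAut.conj h⁻¹).injective z
  set C := centralizer ({x} : Set G) with hC
  have hzC : z ∈ C := mem_centralizer_singleton_iff.2 (hzc x hxP).symm.eq
  have hz'C : z' ∈ C := by
    refine mem_centralizer_singleton_iff.2 ?_
    have hyz := hzc y y.2
    rw [← hh] at hyz
    have hmap := hyz.map (MulAut.conj h⁻¹).toMonoidHom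
    have e1 : (MulAut.conj h⁻¹).toMonoidHom (h * x * h⁻¹) = x := by
      show h⁻¹ * (h * x * h⁻¹) * h⁻¹⁻¹ = x
      group
    have e2 : (MulAut.conj h⁻¹).toMonoidHom z = z' := by
      show h⁻¹ * z * h⁻¹⁻¹ = z'
      rw [hz', inv_inv]
    rw [e1, e2] at hmap
    exact hmap.symm.eq
  have hzz : IsPGroup 3 (zpowers (⟨z, hzC⟩ : C)) :=
    IsPGroup.of_card (n := 1) (by rw [Nat.card_zpowers, Subgroup.orderOf_mk, hzo, pow_one])
  obtain ⟨Q, hQ⟩ := hzz.exists_le_sylow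
  obtain ⟨⟨c, hcC⟩, hc⟩ := CfsgLib.Invol.exists_conj_le_sylow (IsPGroup.of_card (n := 1)
    (by rw [Nat.card_zpowers, Subgroup.orderOf_mk, hz'o, pow_one]) :
      IsPGroup 3 (zpowers (⟨z', hz'C⟩ : C))) Q
  have hmem1 : z ∈ (Q : Subgroup C).map C.subtype := ⟨_, hQ (mem_zpowers _), rfl⟩
  have hmem2 : c * z' * c⁻¹ ∈ (Q : Subgroup C).map C.subtype := ⟨_, hc _ (mem_zpowers _), rfl⟩
  have hfix2 : fixedBy Ω (c * z' * c⁻¹) = Φ := by
    rw [← hzΦ]
    refine hshare _ (Q.2.map _) _ hmem2 _ hmem1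
      ((orderOf_injective (MulAut.conj c).toMonoidHom (MulAut.conj c).injective z').trans hz'o) hzo
      ?_ (by rw [hzΦ])
    rw [fixedBy_conj_ncard, ← hz'fix, Set.ncard_smul_set]
  set k := h * c⁻¹ with hk
  have hkx : k * x * k⁻¹ = (y : G) := by
    have hcx : Commute c x := mem_centralizer_singleton_iff.1 hcC
    rw [← hh, hk]
    calc h * c⁻¹ * x * (h * c⁻¹)⁻¹ = h * (c⁻¹ * x * c) * h⁻¹ := by group
      _ = h * x * h⁻¹ := by rw [hcx.inv_left.eq, inv_mul_cancel_right]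
  have hkΦ : k • Φ = Φ := by
    conv_lhs => rw [← hfix2, ← smul_fixedBy_eq, hk, ← mul_smul, inv_mul_cancel_right]
    exact hz'fix
  -- the adjusted element fixes a point and has even order
  obtain ⟨i, j, b', -, hb'⟩ := exists_fix_of_cycle h4 hx3 (hstab x hxP) hkΦ hb hxb (u := k)
  refine smul_ne_of_even hf0 ?_ b' hb'
  have hmemH : x ^ i * (x ^ j)⁻¹ * k ∈ stabilizer G Φ :=
    mul_mem (hPH (mul_mem (pow_mem hxP i) (inv_mem (pow_mem hxP j)))) (mem_stabilizer_iff.2 hkΦ)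
  set v : stabilizer G Φ := ⟨_, hmemH⟩ with hv
  set r := θ₀ ⟨x, hxP⟩ with hr
  have hk' : res Φ ⟨k, mem_stabilizer_iff.2 hkΦ⟩ * r * (res Φ ⟨k, mem_stabilizer_iff.2 hkΦ⟩)⁻¹ = r⁻¹ := by
    rw [← hinv, hr]
    show res Φ ⟨k, mem_stabilizer_iff.2 hkΦ⟩ * res Φ ⟨x, hPH hxP⟩ * (res Φ ⟨k, _⟩)⁻¹ =
      res Φ ⟨(y : G), hPH y.2⟩
    rw [← map_inv, ← map_mul, ← map_mul]
    exact congrArg _ (Subtype.ext hkx)
  have hev : Even (orderOf (res Φ v)) := by
    refine even_of_inverts hord ?_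
    have e : res Φ v = r ^ i * (r ^ j)⁻¹ * res Φ ⟨k, mem_stabilizer_iff.2 hkΦ⟩ := by
      show res Φ v = res Φ ⟨x, hPH hxP⟩ ^ i * (res Φ ⟨x, hPH hxP⟩ ^ j)⁻¹ * _
      rw [← map_pow, ← map_pow, ← map_inv, ← map_mul, ← map_mul]
      rfl
    rw [e]
    generalize res Φ ⟨k, mem_stabilizer_iff.2 hkΦ⟩ = w at hk' ⊢
    have hc : Commute (r ^ i * (r ^ j)⁻¹) r⁻¹ :=
      (((Commute.refl r).pow_left i).mul_left ((Commute.refl r).pow_left j).inv_left).inv_right
    calc r ^ i * (r ^ j)⁻¹ * w * r * (r ^ i * (r ^ j)⁻¹ * w)⁻¹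
        = (r ^ i * (r ^ j)⁻¹) * (w * r * w⁻¹) * (r ^ i * (r ^ j)⁻¹)⁻¹ := by group
      _ = r⁻¹ := by rw [hk', hc.eq, mul_inv_cancel_right]
  exact hev.trans_dvd ((orderOf_map_dvd (res Φ) v).trans (dvd_of_eq (Subgroup.orderOf_coe v).symm))

end CfsgLib.Perm.FixityFour
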