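import Cfsg.Agent.Lib.Perm.FixityFour.LocalPair
import Cfsg.Agent.Lib.Perm.FixityFour.PermFour
import Cfsg.Agent.Lib.Invol.SectionalFourBound
import Cfsg.Agent.Lib.PGroup.SelfCentEight.Main
import Cfsg.Agent.Lib.Char.FixityTwo.LocalTwo

/-!
# A moved fixed point set of an involution bounds the Sylow 2-subgroup
-/

set_option autoImplicit false
set_option linter.unusedSectionVars false

open MulAction Subgroup
open scoped Pointwise

namespace CfsgLib.Perm.FixityFour

open CfsgLib.Invol.SectFour (Bound)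

variable {G Ω : Type*} [Group G] [MulAction G Ω]

/-- A bound inside the subgroup gives the bound. -/
theorem bound_of_top {S : Subgroup G}
    (h : ∀ R M : Subgroup S, M ≤ R → (∀ a ∈ R, a * a ∈ M) → M.relIndex R ≤ 16) : Bound S := by
  intro R hR M hM hsq
  rw [← relIndex_subgroupOf (H := M) hR]
  exact h (R.subgroupOf S) (M.subgroupOf S)
    (fun x hx => mem_subgroupOf.2 (hM (mem_subgroupOf.1 hx)))
    fun a ha => mem_subgroupOf.2 (hsq a (mem_subgroupOf.1 ha))

theorem comm_of_exp {A : Subgroup G} (h : ∀ a ∈ A, a * a = 1) {a b : G} (ha : a ∈ A) (hb : b ∈ A) :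
    a * b = b * a :=
  CfsgLib.Invol.SectFour.mul_comm_of_sq h ha hb

theorem le_two_pow {k : ℕ} {c : ℕ} (h : c < 2 ^ k) : ∀ j, 2 ^ j ≤ c → 2 ^ (j + 1) ∣ 2 ^ k := by
  intro j hj
  exact pow_dvd_pow 2 ((Nat.pow_lt_pow_iff_right (by norm_num)).1 (lt_of_le_of_lt hj h))

/-- The join of an elementary group and a commuting involution. -/
theorem exists_join {A : Subgroup G} (h : ∀ a ∈ A, a * a = 1) {t : G} (ht : t * t = 1)
    (hc : ∀ a ∈ A, a * t = t * a) :
    ∃ B : Subgroup G, A ≤ B ∧ t ∈ B ∧ (∀ b ∈ B, b * b = 1) ∧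
      ∀ b ∈ B, ∃ a ∈ A, b = a ∨ b = a * t := by
  refine ⟨{ carrier := {b | ∃ a ∈ A, b = a ∨ b = a * t}
            one_mem' := ⟨1, one_mem A, Or.inl rfl⟩
            mul_mem' := ?_
            inv_mem' := ?_ }, fun a ha => ⟨a, ha, Or.inl rfl⟩,
    ⟨1, one_mem A, Or.inr (one_mul t).symm⟩, ?_, fun b hb => hb⟩
  · rintro x y ⟨a, ha, hx⟩ ⟨b, hb, hy⟩
    rcases hx with hx | hx <;> rcases hy with hy | hy <;> rw [hx, hy]
    · exact ⟨_, mul_mem ha hb, Or.inl rfl⟩
    · exact ⟨a * b, mul_mem ha hb, Or.inr (mul_assoc _ _ _).symm⟩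
    · exact ⟨a * b, mul_mem ha hb, Or.inr (by rw [mul_assoc, ← hc _ hb, ← mul_assoc])⟩
    · refine ⟨a * b, mul_mem ha hb, Or.inl ?_⟩
      calc a * t * (b * t) = a * (t * b) * t := by group
        _ = a * (b * t) * t := by rw [hc b hb]
        _ = a * b * (t * t) := by group
        _ = a * b := by rw [ht, mul_one]
  · rintro x ⟨a, ha, hx⟩
    rcases hx with hx | hx <;> rw [hx]
    · exact ⟨_, inv_mem ha, Or.inl rfl⟩
    · exact ⟨a⁻¹, inv_mem ha, Or.inr (by
        rw [mul_inv_rev, inv_eq_of_mul_eq_one_right ht, hc _ (inv_mem ha)])⟩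
  · rintro x ⟨a, ha, hx⟩
    rcases hx with hx | hx <;> rw [hx]
    · exact h _ ha
    · calc a * t * (a * t) = a * (t * a) * t := by group
        _ = a * (a * t) * t := by rw [hc a ha]
        _ = a * a * (t * t) := by group
        _ = 1 := by rw [h a ha, ht, one_mul]

/-- An involution whose centralizer has no elementary subgroup of order eight excludes a normal one. -/
theorem noEight_of [Finite G] {S : Subgroup G} (h2 : IsPGroup 2 S) {t : G} (htS : t ∈ S)
    (hto : orderOf t = 2)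
    (hA : ∀ A : Subgroup G, A ≤ S → (∀ a ∈ A, a * a = 1) → (∀ a ∈ A, a * t = t * a) →
      Nat.card A ≤ 4) : CfsgLib.PGroup.FourGen.NoEight S := by
  haveI : Fact (Nat.Prime 2) := ⟨Nat.prime_two⟩
  intro A hAn hA2
  by_contra hcard
  push Not at hcard
  set A' := A.map S.subtype with hA'
  have hA'S : A' ≤ S := map_subtype_le A
  have hexp : ∀ a ∈ A', a * a = 1 := by
    rintro _ ⟨a, ha, rfl⟩
    rw [← map_mul, ← pow_two, hA2 a ha, map_one]
  have hc' : Nat.card A' = Nat.card A := card_map_of_injective S.subtype_injective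
  have htt : t * t = 1 := by rw [← pow_two, ← hto]; exact pow_orderOf_eq_one t
  by_cases htA : t ∈ A'
  · have := hA A' hA'S hexp fun a ha => comm_of_exp hexp ha htA
    omega
  have hnorm : ∀ a ∈ A', t * a * t⁻¹ ∈ A' := by
    rintro _ ⟨a, ha, rfl⟩
    exact ⟨⟨t, htS⟩ * a * ⟨t, htS⟩⁻¹, hAn.conj_mem a ha _, rfl⟩
  set F := A' ⊓ centralizer ({t} : Set G) with hFdef
  let f : A' →* A' := MonoidHom.mk' (fun a => ⟨t * (a : G) * t⁻¹ * a, mul_mem (hnorm a a.2) a.2⟩)
    fun a b => Subtype.ext (by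
      show t * ((a : G) * b) * t⁻¹ * ((a : G) * b) =
        t * (a : G) * t⁻¹ * a * (t * (b : G) * t⁻¹ * b)
      calc t * ((a : G) * b) * t⁻¹ * ((a : G) * b)
          = t * (a : G) * t⁻¹ * ((t * (b : G) * t⁻¹) * a) * b := by group
        _ = t * (a : G) * t⁻¹ * ((a : G) * (t * (b : G) * t⁻¹)) * b := by
            rw [comm_of_exp hexp a.2 (hnorm b b.2)]
        _ = _ := by group)
  have hti : t⁻¹ = t := inv_eq_of_mul_eq_one_right htt
  have hker : f.ker.map A'.subtype ≤ F := by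
    rintro _ ⟨a, ha, rfl⟩
    refine ⟨a.2, mem_centralizer_singleton_iff.2 ?_⟩
    have e : t * (a : G) * t⁻¹ * a = 1 := congrArg Subtype.val ha
    have e2 : t * (a : G) * t⁻¹ = a :=
      (eq_inv_of_mul_eq_one_left e).trans (inv_eq_of_mul_eq_one_right (hexp _ a.2))
    exact (mul_inv_eq_iff_eq_mul.1 e2).symm
  have hrange : f.range.map A'.subtype ≤ F := by
    rintro _ ⟨_, ⟨a, rfl⟩, rfl⟩
    refine ⟨(f a).2, mem_centralizer_singleton_iff.2 ?_⟩
    show t * (a : G) * t⁻¹ * a * t = t * (t * (a : G) * t⁻¹ * a)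
    have h1 := comm_of_exp hexp (hnorm a a.2) a.2
    calc t * (a : G) * t⁻¹ * a * t = (a : G) * (t * a * t⁻¹) * t := by rw [h1]
      _ = (a : G) * t * a := by group
      _ = (t * t) * a * t * a := by rw [htt, one_mul]
      _ = t * (t * a * t⁻¹ * a) := by rw [hti]; group
  have h1 : Nat.card f.ker ≤ Nat.card F := by
    rw [← card_map_of_injective A'.subtype_injective]
    exact card_le_of_le hker
  have h2' : Nat.card f.range ≤ Nat.card F := by
    rw [← card_map_of_injective A'.subtype_injective]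
    exact card_le_of_le hrange
  have h5 := f.ker.card_mul_index
  rw [index_ker] at h5
  have hF : 2 < Nat.card F := by
    by_contra hF
    push Not at hF
    have := Nat.mul_le_mul (h1.trans hF) (h2'.trans hF)
    omega
  obtain ⟨k, hk⟩ := (IsPGroup.iff_card (G := F)).1 (h2.to_le (inf_le_left.trans hA'S : F ≤ S))
  obtain ⟨B, hFB, htB, hBexp, hBel⟩ := exists_join (A := F) (fun a ha => hexp a ha.1) htt
    (fun a ha => mem_centralizer_singleton_iff.1 ha.2)
  have hBS : B ≤ S := fun b hb => by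
    obtain ⟨a, ha, rfl | rfl⟩ := hBel b hb
    · exact hA'S ha.1
    · exact mul_mem (hA'S ha.1) htS
  have hB := hA B hBS hBexp fun b hb => comm_of_exp hBexp hb htB
  have hlt : Nat.card F < Nat.card B := by
    rcases (card_le_of_le hFB).lt_or_eq with h | h
    · exact h
    · refine absurd ((?_ : t ∈ F)) fun h => htA h.1
      rw [eq_of_le_of_card_ge hFB h.ge]
      exact htB
  obtain ⟨j, hj⟩ := (IsPGroup.iff_card (G := B)).1 (h2.to_le hBS)
  have hk2 : 2 ≤ k := by
    by_contra hk2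
    have : (2 : ℕ) ^ k ≤ 2 ^ 1 := Nat.pow_le_pow_right two_pos (by omega)
    omega
  have hj3 : k + 1 ≤ j := (Nat.pow_lt_pow_iff_right (by norm_num)).1 (hk ▸ hj ▸ hlt)
  have : (2 : ℕ) ^ 3 ≤ 2 ^ j := Nat.pow_le_pow_right two_pos (by omega)
  omega

theorem bound_of_noEight [Finite G] {S : Subgroup G} (h2 : IsPGroup 2 S)
    (h : CfsgLib.PGroup.FourGen.NoEight S) : Bound S :=
  bound_of_top fun _ _ _ hsq => CfsgLib.PGroup.FourGen.relIndex_le_sixteen h2 h hsq

theorem bound_of_eight [Finite G] {S A : Subgroup G} (h2 : IsPGroup 2 S) (hAS : A ≤ S)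
    (hexp : ∀ a ∈ A, a * a = 1) (h8 : Nat.card A = 8)
    (hself : ∀ c ∈ S, (∀ a ∈ A, a * c = c * a) → c ∈ A) : Bound S := by
  refine bound_of_top fun R M hM hsq =>
    CfsgLib.PGroup.SelfCentEight.relIndex_le_of_eight (A := A.subgroupOf S) ?_ hM hsq
  refine ⟨h2, fun a ha => Subtype.ext ?_, ?_, le_antisymm (fun c hc => ?_) fun c hc => ?_⟩
  · rw [SubmonoidClass.coe_pow, pow_two, hexp _ (mem_subgroupOf.1 ha)]
    rfl
  · rw [Nat.card_congr (subgroupOfEquivOfLe hAS).toEquiv, h8]
  · refine mem_subgroupOf.2 (hself c c.2 fun a ha => ?_)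
    exact congrArg Subtype.val (mem_centralizer_iff.1 hc ⟨a, hAS ha⟩ (mem_subgroupOf.2 ha))
  · refine mem_centralizer_iff.2 fun a ha => Subtype.ext ?_
    exact comm_of_exp hexp (mem_subgroupOf.1 ha) (mem_subgroupOf.1 hc)

/-- The action of the setwise stabilizer in `S`. -/
noncomputable def act (S : Subgroup G) (Φ : Set Ω) : setStab S Φ →* Equiv.Perm Φ :=
  (res Φ).comp (Subgroup.inclusion inf_le_right)

theorem act_eq_one {S : Subgroup G} {Φ : Set Ω} {g : setStab S Φ} :
    act S Φ g = 1 ↔ (g : G) ∈ ptStab S Φ :=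
  ⟨fun h => ⟨g.2.1, res_eq_one.1 h⟩, fun h => res_eq_one.2 h.2⟩

@[simp] theorem act_apply {S : Subgroup G} {Φ : Set Ω} (g : setStab S Φ) (a : Φ) :
    ((act S Φ g a : Φ) : Ω) = (g : G) • (a : Ω) := rfl

variable [Finite G] [Finite Ω] {S : Subgroup G} {Φ Ψ : Set Ω}

/-- The transitive case: the pointwise stabilizers have order four and the setwise one order 32. -/
theorem bound_of_thirtyTwo (M : Moved 2 S Φ) (M' : Moved 2 S Ψ) (C : Companion S Φ Ψ)
    (h4 : Φ.ncard = 4) (hD : Nat.card (ptStab S Φ) = 4) (hU : Nat.card (setStab S Φ) = 32) :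
    Bound S := by
  classical
  haveI : Fact (Nat.Prime 2) := ⟨Nat.prime_two⟩
  haveI : Fintype Φ := Fintype.ofFinite _
  haveI : Fintype Ψ := Fintype.ofFinite _
  have hΨ4 : Ψ.ncard = 4 := C.card.trans h4
  have hE : Nat.card (ptStab S Ψ) = 4 := C.card_pt.trans hD
  obtain ⟨hdvd, hne⟩ := M.card_dvd C
  rw [hD] at hdvd
  have hdiff : (Ψ \ Φ) = Ψ := by
    refine Set.eq_of_subset_of_ncard_le Set.sdiff_subset ?_
    rw [hΨ4]
    exact Nat.le_of_dvd ((Set.ncard_pos).2 hne) hdvd
  have hdisj : ∀ a ∈ Ψ, a ∉ Φ := fun a ha => (hdiff.symm ▸ ha : a ∈ Ψ \ Φ).2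
  -- regular action of a pointwise stabilizer on the other set
  have hreg : ∀ {A B : Set Ω}, Moved 2 S A → (∀ a ∈ B, a ∉ A) → B.ncard = 4 →
      Nat.card (ptStab S A) = 4 → (∀ d ∈ ptStab S A, d • B = B) → ∀ a ∈ B, ∀ b ∈ B,
      ∃ d ∈ ptStab S A, d • a = b := by
    intro A B MA hAB hB hDA hinv a ha b hb
    let f : ptStab S A → B := fun d => ⟨(d : G) • a, by
      rw [← hinv d d.2]
      exact Set.smul_mem_smul_set ha⟩
    have hf : Function.Injective f := by
      intro d d' h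
      have h' : (d : G) • a = (d' : G) • a := congrArg Subtype.val h
      by_contra hdd
      have h1 : (d' : G)⁻¹ * d ≠ 1 := fun e => hdd (Subtype.ext (inv_mul_eq_one.1 e).symm)
      refine hAB a ha ((MA.fix_eq (mul_mem (inv_mem d'.2) d.2) h1).subset ?_)
      show ((d' : G)⁻¹ * d) • a = a
      rw [mul_smul, h', inv_smul_smul]
    obtain ⟨d, hd⟩ := (hf.bijective_of_nat_card_le (by rw [Nat.card_coe_set_eq, hB, hDA])).2 ⟨b, hb⟩
    exact ⟨d, d.2, congrArg Subtype.val hd⟩
  have hDΨ : ∀ d ∈ ptStab S Φ, d • Ψ = Ψ := fun d hd =>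
    (C.mem_setStab_iff.2 (ptStab_le S Φ hd)).2
  have hEΦ : ∀ e ∈ ptStab S Ψ, e • Φ = Φ := fun e he => (C.ptStab_le' he).2
  have regD := hreg M hdisj hΨ4 hD hDΨ
  have regE := hreg M' (fun a ha h => hdisj a h ha) h4 hE hEΦ
  obtain ⟨a, haΦ⟩ : Φ.Nonempty := (Set.ncard_pos).1 (by omega)
  obtain ⟨b, hbΨ⟩ : Ψ.Nonempty := (Set.ncard_pos).1 (by omega)
  set U := setStab S Φ with hUdef
  -- the stabilizer of two points
  let X := U ⊓ stabilizer G a ⊓ stabilizer G b
  have hX : ∃ u ∈ X, u ≠ 1 := by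
    by_contra hno
    push Not at hno
    let f : ptStab S Ψ × ptStab S Φ → U := fun x =>
      ⟨(x.1 : G) * x.2, mul_mem (C.ptStab_le' x.1.2) (ptStab_le S Φ x.2.2)⟩
    have hsurj : Function.Surjective f := by
      intro v
      have hva : (v : G) • a ∈ Φ := by
        have := Set.smul_mem_smul_set (a := (v : G)) haΦ
        rwa [v.2.2] at this
      obtain ⟨e, he, hea⟩ := regE a haΦ _ hva
      set w := e⁻¹ * (v : G) with hw
      have hwU : w ∈ U := mul_mem (inv_mem (C.ptStab_le' he)) v.2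
      have hwa : w • a = a := by rw [hw, mul_smul, ← hea, inv_smul_smul]
      have hwb : w • b ∈ Ψ := by
        have := Set.smul_mem_smul_set (a := w) hbΨ
        rwa [(C.mem_setStab_iff.2 hwU).2] at this
      obtain ⟨d, hd, hdb⟩ := regD b hbΨ _ hwb
      have h1 : d⁻¹ * w = 1 := hno _ (mem_inf.2 ⟨mem_inf.2 ⟨mul_mem (inv_mem (ptStab_le S Φ hd)) hwU,
        mem_stabilizer_iff.2 (by
          rw [mul_smul, hwa, inv_smul_eq_iff]
          exact (mem_pw.1 hd.2 haΦ).symm)⟩,
        mem_stabilizer_iff.2 (by rw [mul_smul, ← hdb, inv_smul_smul])⟩)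
      refine ⟨(⟨e, he⟩, ⟨d, hd⟩), Subtype.ext ?_⟩
      show e * d = v
      rw [inv_mul_eq_one.1 h1, hw, mul_inv_cancel_left]
    have := Nat.card_le_card_of_surjective f hsurj
    rw [Nat.card_prod, hE, hD, hU] at this
    omega
  obtain ⟨u₀, hu₀, hu₀1⟩ := hX
  obtain ⟨k, huo⟩ := exists_pow_prime M.group hu₀.1.1.1 hu₀1
  set u := u₀ ^ k with hudef
  have huX : u ∈ X := pow_mem hu₀ k
  have hu1 : u ≠ 1 := ne_one_of_orderOf_eq_prime Nat.prime_two huo
  have huS : u ∈ S := huX.1.1.1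
  have huU : u ∈ U := huX.1.1
  have hua : u • a = a := huX.1.2
  have hub : u • b = b := huX.2
  have huu : u * u = 1 := by rw [← pow_two, ← huo]; exact pow_orderOf_eq_one u
  set uP := act S Φ ⟨u, huU⟩ with huP
  set uQ := act S Ψ ⟨u, C.mem_setStab_iff.2 huU⟩ with huQ
  have huP1 : uP ≠ 1 := fun h => hdisj b hbΨ ((M.fix_eq (act_eq_one.1 h) hu1).subset hub)
  have huQ1 : uQ ≠ 1 := fun h => hdisj a ((M'.fix_eq (act_eq_one.1 h) hu1).subset hua) haΦ
  have hP2 : uP * uP = 1 := by
    rw [huP, ← map_mul, show (⟨u, huU⟩ * ⟨u, huU⟩ : setStab S Φ) = 1 from Subtype.ext huu, map_one]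
  have hQ2 : uQ * uQ = 1 := by
    rw [huQ, ← map_mul, show (⟨u, C.mem_setStab_iff.2 huU⟩ * ⟨u, C.mem_setStab_iff.2 huU⟩ :
      setStab S Ψ) = 1 from Subtype.ext huu, map_one]
  obtain ⟨hPexp, hPcard⟩ := transposition_comm (by rw [← Nat.card_eq_fintype_card,
    Nat.card_coe_set_eq, h4]) hP2 huP1 (i := ⟨a, haΦ⟩) (Subtype.ext hua)
  obtain ⟨hQexp, hQcard⟩ := transposition_comm (by rw [← Nat.card_eq_fintype_card,
    Nat.card_coe_set_eq, hΨ4]) hQ2 huQ1 (i := ⟨b, hbΨ⟩) (Subtype.ext hub)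
  -- fixed elements in the pointwise stabilizers
  have hfixed : ∀ {A : Set Ω}, Nat.card (ptStab S A) = 4 → u • A = A →
      ∃ d ∈ ptStab S A, d ≠ 1 ∧ u * d = d * u := by
    intro A hA huA
    obtain ⟨d, hd, hd1⟩ : ∃ d ∈ ptStab S A, d ≠ 1 := by
      by_contra hno
      push Not at hno
      have : ptStab S A = ⊥ := eq_bot_iff.2 fun x hx => mem_bot.2 (hno x hx)
      rw [this, card_bot] at hA
      omega
    have hcomm := IsPGroup.commutative_of_card_eq_prime_sq (p := 2) (G := ptStab S A)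
      (by rw [hA]; norm_num)
    have hd' : u * d * u⁻¹ ∈ ptStab S A :=
      mem_inf.2 ⟨mul_mem (mul_mem huS hd.1) (inv_mem huS), conj_mem_pw huA hd.2⟩
    have hc : d * (u * d * u⁻¹) = (u * d * u⁻¹) * d := congrArg Subtype.val (hcomm ⟨d, hd⟩ ⟨_, hd'⟩)
    by_cases hprod : d * (u * d * u⁻¹) = 1
    · by_cases hd2 : d * d = 1
      · refine ⟨d, hd, hd1, ?_⟩
        have e : u * d * u⁻¹ = d := by
          rw [← inv_eq_of_mul_eq_one_right hprod]
          exact inv_eq_of_mul_eq_one_right hd2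
        exact mul_inv_eq_iff_eq_mul.1 e
      · refine ⟨d * d, mul_mem hd hd, hd2, ?_⟩
        have e : u * d * u⁻¹ = d⁻¹ := (inv_eq_of_mul_eq_one_right hprod).symm
        have e4 : d⁻¹ * d⁻¹ = d * d := by
          have h4' : (⟨d, hd⟩ : ptStab S A) ^ 4 = 1 := by rw [← hA]; exact pow_card_eq_one'
          have h4'' : d * d * (d * d) = 1 := by
            have := congrArg Subtype.val h4'
            rw [SubmonoidClass.coe_pow, OneMemClass.coe_one] at this
            rw [← this]
            show d * d * (d * d) = d ^ 4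
            simp only [pow_succ, pow_zero, one_mul, mul_assoc]
          rw [← mul_inv_rev]
          exact inv_eq_of_mul_eq_one_right h4''
        have e2 : u * (d * d) * u⁻¹ = d * d := by
          rw [show u * (d * d) * u⁻¹ = (u * d * u⁻¹) * (u * d * u⁻¹) by group, e, e4]
        exact mul_inv_eq_iff_eq_mul.1 e2
    · refine ⟨_, mul_mem hd hd', hprod, ?_⟩
      have hui : u⁻¹ = u := inv_eq_of_mul_eq_one_right huu
      have e2 : u * (d * (u * d * u⁻¹)) * u⁻¹ = d * (u * d * u⁻¹) := by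
        calc u * (d * (u * d * u⁻¹)) * u⁻¹ = (u * d * u⁻¹) * ((u * u) * d * (u⁻¹ * u⁻¹)) := by group
          _ = (u * d * u⁻¹) * d := by rw [hui, huu, one_mul, mul_one]
          _ = d * (u * d * u⁻¹) := hc.symm
      exact mul_inv_eq_iff_eq_mul.1 e2
  obtain ⟨d₀, hd₀, hd₀1, hd₀u⟩ := hfixed hD huU.2
  obtain ⟨e₀, he₀, he₀1, he₀u⟩ := hfixed hE (C.mem_setStab_iff.2 huU).2
  set A := U ⊓ centralizer ({u} : Set G) with hA
  have huA : u ∈ A := ⟨huU, mem_centralizer_singleton_iff.2 rfl⟩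
  have hd₀A : d₀ ∈ A := ⟨ptStab_le S Φ hd₀, mem_centralizer_singleton_iff.2 hd₀u.symm⟩
  have he₀A : e₀ ∈ A := ⟨C.ptStab_le' he₀, mem_centralizer_singleton_iff.2 he₀u.symm⟩
  have hcomPA : ∀ x : A, uP * act S Φ ⟨x, x.2.1⟩ = act S Φ ⟨x, x.2.1⟩ * uP := fun x => by
    rw [huP, ← map_mul, ← map_mul]
    exact congrArg _ (Subtype.ext (mem_centralizer_singleton_iff.1 x.2.2).symm)
  have hexp : ∀ x ∈ A, x * x = 1 := by
    intro x hx
    refine C.triv _ (mul_mem hx.1.1 hx.1.1) (mem_pw.1 ?_) (mem_pw.1 ?_)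
    · have h := hPexp _ (hcomPA ⟨x, hx⟩)
      rw [← map_mul] at h
      exact (act_eq_one.1 h).2
    · have hc : uQ * act S Ψ ⟨x, C.mem_setStab_iff.2 hx.1⟩ =
          act S Ψ ⟨x, C.mem_setStab_iff.2 hx.1⟩ * uQ := by
        rw [huQ, ← map_mul, ← map_mul]
        exact congrArg _ (Subtype.ext (mem_centralizer_singleton_iff.1 hx.2).symm)
      have h := hQexp _ hc
      rw [← map_mul] at h
      exact (act_eq_one.1 h).2
  have hA5 : 5 ≤ Nat.card A := by
    have he₀d : e₀ ≠ d₀ := fun e => he₀1 (C.triv _ he₀.1 (mem_pw.1 (e ▸ hd₀.2)) (mem_pw.1 he₀.2))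
    have hud : u ≠ d₀ := fun e => huP1 (act_eq_one.2 (e ▸ hd₀))
    have hue : u ≠ e₀ := fun e => huQ1 (act_eq_one.2 (e ▸ he₀))
    have hde1 : d₀ * e₀ ≠ 1 := fun e => hd₀1 (C.triv _ hd₀.1 (mem_pw.1 hd₀.2)
      (mem_pw.1 (by rw [eq_inv_of_mul_eq_one_left e]; exact inv_mem he₀.2)))
    have hude : u ≠ d₀ * e₀ := by
      intro e
      have he₀a : e₀ • a ∈ Φ := by
        have := Set.smul_mem_smul_set (a := e₀) haΦ
        rwa [hEΦ e₀ he₀] at this
      have h : e₀ • a = a := by
        rw [← mem_pw.1 hd₀.2 he₀a]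
        show d₀ • e₀ • a = a
        rw [← mul_smul, ← e, hua]
      exact hdisj a ((M'.fix_eq he₀ he₀1).subset h) haΦ
    have hne1 : d₀ * e₀ ≠ d₀ := fun e => he₀1 (mul_eq_left.1 e)
    have hne2 : d₀ * e₀ ≠ e₀ := fun e => hd₀1 (mul_eq_right.1 e)
    have hsub : ({u, d₀ * e₀, e₀, d₀, 1} : Set G) ⊆ A := by
      rintro x (rfl | rfl | rfl | rfl | rfl)
      exacts [huA, mul_mem hd₀A he₀A, he₀A, hd₀A, one_mem A]
    have h5 : ({u, d₀ * e₀, e₀, d₀, 1} : Set G).ncard = 5 := by
      rw [Set.ncard_insert_of_notMem (by simp [hu1, hud, hue, hude]) (Set.toFinite _),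
        Set.ncard_insert_of_notMem (by simp [hde1, hne1, hne2]) (Set.toFinite _),
        Set.ncard_insert_of_notMem (by simp [he₀d, he₀1]) (Set.toFinite _),
        Set.ncard_pair hd₀1]
    rw [← SetLike.coe_sort_coe, Nat.card_coe_set_eq, ← h5]
    exact Set.ncard_le_ncard hsub (Set.toFinite _)
  have hA8 : Nat.card A ≤ 8 := by
    let q : A →* centralizer ({uP} : Set (Equiv.Perm Φ)) :=
      ((act S Φ).comp (Subgroup.inclusion inf_le_left)).codRestrict _ fun x =>
        mem_centralizer_singleton_iff.2 (hcomPA x).symm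
    have hk : Nat.card q.ker ≤ 2 := by
      have hle : q.ker.map A.subtype ≤ ptStab S Φ := by
        rintro _ ⟨x, hx, rfl⟩
        exact act_eq_one.1 (congrArg Subtype.val hx)
      rw [← card_map_of_injective A.subtype_injective]
      by_contra hgt
      push Not at hgt
      have hdvd' := card_dvd_of_le hle
      rw [hD] at hdvd'
      have heq : q.ker.map A.subtype = ptStab S Φ := eq_of_le_of_card_ge hle (by
        rw [hD]
        have := Nat.le_of_dvd (by norm_num) hdvd'
        interval_cases Nat.card (q.ker.map A.subtype) <;> omega)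
      -- then the regular group centralizes a transposition
      let r : ptStab S Φ →* centralizer ({uQ} : Set (Equiv.Perm Ψ)) :=
        ((act S Ψ).comp (Subgroup.inclusion fun x hx =>
          C.mem_setStab_iff.2 (ptStab_le S Φ hx))).codRestrict _ fun x => by
          refine mem_centralizer_singleton_iff.2 ?_
          have hx : (x : G) ∈ q.ker.map A.subtype := by rw [heq]; exact x.2
          obtain ⟨y, -, hy⟩ := hx
          show act S Ψ _ * uQ = uQ * act S Ψ _
          rw [huQ, ← map_mul, ← map_mul]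
          refine congrArg _ (Subtype.ext ?_)
          show (x : G) * u = u * x
          rw [← hy]
          exact mem_centralizer_singleton_iff.1 y.2.2
      have hr : Function.Injective r := by
        rw [injective_iff_map_eq_one]
        intro x hx
        exact Subtype.ext (C.triv _ x.2.1 (mem_pw.1 x.2.2)
          (mem_pw.1 (act_eq_one.1 (congrArg Subtype.val hx)).2))
      obtain ⟨x, hx⟩ := (hr.bijective_of_nat_card_le (by rw [hQcard, hD])).2
        ⟨uQ, mem_centralizer_singleton_iff.2 rfl⟩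
      have hxb : (x : G) • b = b :=
        (congrArg (fun w : centralizer ({uQ} : Set (Equiv.Perm Ψ)) =>
          (((w : Equiv.Perm Ψ) ⟨b, hbΨ⟩ : Ψ) : Ω)) hx).trans hub
      refine huQ1 ((congrArg Subtype.val hx).symm.trans ?_)
      have hx1 : x = 1 := Subtype.ext (by
        by_contra h1
        exact hdisj b hbΨ ((M.fix_eq x.2 h1).subset hxb))
      rw [hx1]
      exact congrArg Subtype.val (map_one r)
    have h5 := q.ker.card_mul_index
    rw [index_ker] at h5
    have hr4 : Nat.card q.range ≤ 4 := hPcard ▸ Nat.card_le_card_of_injective _ Subtype.val_injective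
    have := Nat.mul_le_mul hk hr4
    omega
  have hAc : Nat.card A = 8 := by
    obtain ⟨j, hj⟩ := (IsPGroup.iff_card (G := A)).1
      (M.group.to_le ((inf_le_left.trans inf_le_left) : A ≤ S))
    have h1 : 3 ≤ j := by
      by_contra h
      have : (2 : ℕ) ^ j ≤ 2 ^ 2 := Nat.pow_le_pow_right two_pos (by omega)
      omega
    have h2 : j ≤ 3 := (Nat.pow_le_pow_iff_right (show 1 < 2 by norm_num)).1 (by omega)
    rw [hj, show j = 3 by omega]
    norm_num
  refine bound_of_eight M.group (inf_le_left.trans inf_le_left) hexp hAc fun c hc hcA => ?_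
  refine ⟨C.mem_setStab_iff.1 ⟨hc, ?_⟩, mem_centralizer_singleton_iff.2 (hcA u huA).symm⟩
  show c • Ψ = Ψ
  conv_lhs => rw [← M'.fix_eq he₀ he₀1]
  rw [smul_fixedBy_of_commute (hcA e₀ he₀A).symm, M'.fix_eq he₀ he₀1]

/-- A moved fixed point set bounds the Sylow subgroup. -/
theorem bound_of_moved (M : Moved 2 S Φ) :
    Bound S ∧ (Φ.ncard ≤ 3 →
      (∃ n : ℕ, Nonempty (S ≃* DihedralGroup n)) ∨ Cfsg.IsQuasiDihedral S) := by
  classical
  haveI : Fact (Nat.Prime 2) := ⟨Nat.prime_two⟩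
  obtain ⟨Ψ, C, M'⟩ := M.exists_companion
  obtain ⟨t, htS, hto, htΦ⟩ := M.ex
  have htD : t ∈ ptStab S Φ := ⟨htS, mem_pw.2 htΦ.ge⟩
  have htt : t * t = 1 := by rw [← pow_two, ← hto]; exact pow_orderOf_eq_one t
  have hcent : ∀ c ∈ S, c * t = t * c → c ∈ setStab S Φ := fun c hc h => ⟨hc, by
    show c • Φ = Φ
    rw [← htΦ]
    exact smul_fixedBy_of_commute h⟩
  obtain ⟨hdvd, hne⟩ := M.card_dvd C
  have hD1 := M.one_lt_card
  have hdle : Nat.card (ptStab S Φ) ≤ Φ.ncard := by
    refine (Nat.le_of_dvd ((Set.ncard_pos).2 hne) hdvd).trans ?_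
    rw [← C.card]
    exact Set.ncard_le_ncard Set.sdiff_subset
  obtain ⟨i, hi⟩ := (IsPGroup.iff_card (G := ptStab S Φ)).1
    (M.group.to_le (inf_le_left : ptStab S Φ ≤ S))
  obtain ⟨r, hr⟩ := (IsPGroup.iff_card (G := setStab S Φ)).1
    (M.group.to_le (inf_le_left : setStab S Φ ≤ S))
  have hrel := relIndex_ptStab_dvd S Φ
  have hcardU := card_eq_relIndex_mul (ptStab_le S Φ)
  obtain ⟨l, -, hl⟩ := (Nat.dvd_prime_pow Nat.prime_two).1
    (hr ▸ Dvd.intro _ hcardU.symm : (ptStab S Φ).relIndex (setStab S Φ) ∣ 2 ^ r)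
  rw [hl] at hrel hcardU
  have hi1 : 1 ≤ i := by
    by_contra h
    rw [show i = 0 by omega, pow_zero] at hi
    omega
  have hsq := C.sq_card_le
  by_cases h3 : Φ.ncard ≤ 3
  · -- two or three points
    have hD2 : Nat.card (ptStab S Φ) = 2 := by
      have h1 : i ≤ 1 := by
        by_contra h
        have : (2 : ℕ) ^ 2 ≤ 2 ^ i := Nat.pow_le_pow_right two_pos (by omega)
        omega
      rw [hi, show i = 1 by omega, pow_one]
    have hfac : Φ.ncard.factorial ∣ 6 := Nat.factorial_dvd_factorial h3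
    have hl2 := pow_le_two (hrel.trans hfac)
    have hU : Nat.card (setStab S Φ) = 4 := by
      rw [hD2] at hsq hcardU
      omega
    refine ⟨bound_of_noEight M.group (noEight_of M.group htS hto fun A hAS _ hAt => hU ▸
      card_le_of_le fun a ha => hcent a (hAS ha) (hAt a ha)), fun _ => ?_⟩
    refine CfsgLib.Char.FixityTwo.shape_of_centralizer M.group (t := (⟨t, htS⟩ : S))
      (by rw [← hto]; exact (Subgroup.orderOf_coe _).symm) ((setStab S Φ).subgroupOf S)
      (by rw [Nat.card_congr (subgroupOfEquivOfLe (show setStab S Φ ≤ S from inf_le_left)).toEquiv, hU])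
      (mem_subgroupOf.2 (ptStab_le S Φ htD)) (fun c hc => mem_subgroupOf.2
        (hcent c c.2 (congrArg Subtype.val (mem_centralizer_singleton_iff.1 hc)))) ?_
    intro htop
    obtain ⟨s, hs, hsΦ⟩ := M.moved
    have h : (⟨s, hs⟩ : S) ∈ (setStab S Φ).subgroupOf S := by rw [htop]; exact mem_top _
    exact hsΦ (mem_setStab.1 (mem_subgroupOf.1 h)).2
  refine ⟨?_, fun h => absurd h h3⟩
  have h4 : Φ.ncard = 4 := le_antisymm M.small (by omega)
  have hl8 := pow_le_eight (by rw [h4] at hrel; exact hrel : 2 ^ l ∣ 24)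
  rcases (show i = 1 ∨ i = 2 by
    have : (2 : ℕ) ^ i ≤ 2 ^ 2 := by omega
    have := (Nat.pow_le_pow_iff_right (show 1 < 2 by norm_num)).1 this
    omega) with rfl | rfl
  · -- pointwise stabilizer of order two
    rw [pow_one] at hi
    by_cases hA : ∀ A : Subgroup G, A ≤ S → (∀ a ∈ A, a * a = 1) → (∀ a ∈ A, a * t = t * a) →
        Nat.card A ≤ 4
    · exact bound_of_noEight M.group (noEight_of M.group htS hto hA)
    push Not at hA
    obtain ⟨A, hAS, hAexp, hAt, hA4⟩ := hA
    obtain ⟨B, hAB, htB, hBexp, hBel⟩ := exists_join hAexp htt hAt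
    have hBS : B ≤ S := fun b hb => by
      obtain ⟨a, ha, rfl | rfl⟩ := hBel b hb
      · exact hAS ha
      · exact mul_mem (hAS ha) htS
    obtain ⟨j, hj⟩ := IsPGroup.iff_card.1 (M.group.to_le hBS)
    have hj3 : 3 ≤ j := by
      by_contra h
      have : (2 : ℕ) ^ j ≤ 2 ^ 2 := Nat.pow_le_pow_right two_pos (by omega)
      have := card_le_of_le hAB
      omega
    have ht' : Nat.card (zpowers (⟨t, htB⟩ : B)) = 2 ^ 1 := by
      rw [Nat.card_zpowers, pow_one, Subgroup.orderOf_mk, hto]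
    obtain ⟨K, hK, htK⟩ := Sylow.exists_subgroup_card_pow_prime_le 2 (m := 3)
      (by rw [hj]; exact pow_dvd_pow 2 hj3) (zpowers (⟨t, htB⟩ : B)) ht' (by norm_num)
    set A8 := K.map B.subtype with hA8
    have hA8c : Nat.card A8 = 8 := by
      rw [hA8, card_map_of_injective B.subtype_injective, hK]; norm_num
    have hA8B : A8 ≤ B := map_subtype_le K
    have htA8 : t ∈ A8 := ⟨⟨t, htB⟩, htK (mem_zpowers _), rfl⟩
    have hexp8 : ∀ a ∈ A8, a * a = 1 := fun a ha => hBexp a (hA8B ha)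
    have hA8U : A8 ≤ setStab S Φ := fun a ha => hcent a (hBS (hA8B ha))
      (comm_of_exp hexp8 ha htA8)
    refine bound_of_eight M.group (hA8B.trans hBS) hexp8 hA8c fun c hc hcomm => ?_
    by_contra hcA
    have hcU : c ∈ setStab S Φ := hcent c hc (hcomm t htA8).symm
    rw [hi] at hcardU
    have hU16 : Nat.card (setStab S Φ) ≤ 16 := by omega
    set U := setStab S Φ with hUdef
    set V := A8.subgroupOf U with hV
    have hVc : Nat.card V = 8 := by
      rw [hV, Nat.card_congr (subgroupOfEquivOfLe hA8U).toEquiv, hA8c]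
    have hmul := V.card_mul_index
    rw [hVc] at hmul
    have hidx : V.index = 2 := by
      have h1 : V.index ≠ 1 := fun h => hcA (mem_subgroupOf.1
        ((index_eq_one.1 h) ▸ mem_top (⟨c, hcU⟩ : U) : (⟨c, hcU⟩ : U) ∈ V))
      have h0 : V.index ≠ 0 := index_ne_zero_of_finite
      omega
    have hcen : ∀ v ∈ V, ∀ x : U, v * x = x * v := by
      intro v hv x
      by_cases hx : x ∈ V
      · exact Subtype.ext (comm_of_exp hexp8 (mem_subgroupOf.1 hv) (mem_subgroupOf.1 hx))
      · have hw : (⟨c, hcU⟩ : U)⁻¹ * x ∈ V := by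
          rw [mul_mem_iff_of_index_two hidx]
          refine iff_of_false (fun h => hcA (mem_subgroupOf.1 ((inv_mem_iff).1 h))) hx
        refine Subtype.ext ?_
        have e1 := comm_of_exp hexp8 (mem_subgroupOf.1 hv) (mem_subgroupOf.1 hw)
        have e2 := hcomm _ (mem_subgroupOf.1 hv)
        simp only [Subgroup.coe_mul, Subgroup.coe_inv] at e1
        show (v : G) * x = x * v
        calc (v : G) * x = (v : G) * c * (c⁻¹ * x) := by group
          _ = c * ((v : G) * (c⁻¹ * x)) := by rw [e2]; group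
          _ = x * v := by rw [e1]; group
    have hUcomm : ∀ x y : U, x * y = y * x := by
      intro x y
      by_cases hx : x ∈ V
      · exact hcen x hx y
      by_cases hy : y ∈ V
      · exact (hcen y hy x).symm
      · have hw : x⁻¹ * y ∈ V := by
          rw [mul_mem_iff_of_index_two hidx]
          exact iff_of_false (fun h => hx ((inv_mem_iff).1 h)) hy
        have e := hcen _ hw x
        calc x * y = x * (x * (x⁻¹ * y)) := by group
          _ = x * ((x⁻¹ * y) * x) := by rw [e]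
          _ = y * x := by group
    haveI : Fintype Φ := Fintype.ofFinite _
    refine card_commutative_ne_eight (by rw [← Nat.card_eq_fintype_card, Nat.card_coe_set_eq, h4])
      (act S Φ).range ?_ ?_
    · rintro _ ⟨x, rfl⟩ _ ⟨y, rfl⟩
      rw [← map_mul, ← map_mul, hUcomm]
    · have hker : (act S Φ).ker = (ptStab S Φ).subgroupOf (setStab S Φ) := by
        ext x
        exact act_eq_one
      rw [← index_ker, hker]
      show (ptStab S Φ).relIndex (setStab S Φ) = 8
      rw [hl]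
      rw [hidx] at hmul
      omega
  · -- pointwise stabilizer of order four
    norm_num at hi
    rw [hi] at hsq hcardU
    have hr45 : r = 4 ∨ r = 5 := by
      have h1 : (2 : ℕ) ^ 4 ≤ 2 ^ r := by rw [← hr]; omega
      have h2 : (2 : ℕ) ^ r ≤ 2 ^ 5 := by rw [← hr]; omega
      have := (Nat.pow_le_pow_iff_right (show 1 < 2 by norm_num)).1 h1
      have := (Nat.pow_le_pow_iff_right (show 1 < 2 by norm_num)).1 h2
      omega
    rcases hr45 with rfl | rfl
    swap
    · exact bound_of_thirtyTwo M M' C h4 hi (by rw [hr]; norm_num)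
    have hU16 : Nat.card (setStab S Φ) = 16 := by rw [hr]; norm_num
    have hE : Nat.card (ptStab S Ψ) = 4 := C.card_pt.trans hi
    have hdecomp : ∀ x ∈ setStab S Φ, ∃ d ∈ ptStab S Φ, ∃ e ∈ ptStab S Ψ, d * e = x := by
      have hinj : Function.Injective (fun x : ptStab S Φ × ptStab S Ψ =>
          (⟨(x.1 : G) * x.2, mul_mem (ptStab_le S Φ x.1.2) (C.ptStab_le' x.2.2)⟩ : setStab S Φ)) :=
        fun x y h => C.mul_injective (congrArg Subtype.val h)
      intro x hx
      obtain ⟨⟨d, e⟩, hde⟩ :=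
        (hinj.bijective_of_nat_card_le (by rw [Nat.card_prod, hi, hE, hU16])).2 ⟨x, hx⟩
      exact ⟨d, d.2, e, e.2, congrArg Subtype.val hde⟩
    have hsqprod : ∀ d ∈ ptStab S Φ, ∀ e ∈ ptStab S Ψ, d * e * (d * e) = 1 →
        d * d = 1 ∧ e * e = 1 := by
      intro d hd e he h
      have hc := C.commute hd he
      have h1 : d * d * (e * e) = 1 := by
        rw [← h]
        calc d * d * (e * e) = d * (d * e) * e := by group
          _ = d * (e * d) * e := by rw [hc.eq]
          _ = d * e * (d * e) := by group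
      have h2 : d * d = 1 := C.triv _ (mul_mem hd.1 hd.1) (mem_pw.1 (mul_mem hd.2 hd.2))
        (mem_pw.1 (by rw [eq_inv_of_mul_eq_one_left h1]; exact inv_mem (mul_mem he.2 he.2)))
      exact ⟨h2, by rwa [h2, one_mul] at h1⟩
    by_cases hexpD : ∀ d ∈ ptStab S Φ, d * d = 1
    · obtain ⟨s, hsS, hconj⟩ := C.conj
      have hexpE : ∀ e ∈ ptStab S Ψ, e * e = 1 := by
        intro e he
        have := hexpD _ ((hconj e).1 he)
        have h' : s⁻¹ * (e * e) * s = 1 := by rw [← this]; group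
        rw [show e * e = s * (s⁻¹ * (e * e) * s) * s⁻¹ by group, h', mul_one, mul_inv_cancel]
      refine CfsgLib.Invol.SectFour.bound (T := setStab S Φ) (B := ptStab S Φ)
        ⟨M.group, inf_le_left, hU16, ?_, ptStab_le S Φ, hi, fun d hd hd1 c hc hcd => ⟨hc, ?_⟩⟩
      · intro x hx
        obtain ⟨d, hd, e, he, rfl⟩ := hdecomp x hx
        calc d * e * (d * e) = d * (e * d) * e := by group
          _ = d * d * (e * e) := by rw [← (C.commute hd he).eq]; group
          _ = 1 := by rw [hexpD d hd, hexpE e he, one_mul]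
      · show c • Φ = Φ
        rw [← M.fix_eq hd hd1]
        exact smul_fixedBy_of_commute hcd
    push Not at hexpD
    obtain ⟨d₀, hd₀, hd₀2⟩ := hexpD
    have hgen : ∀ d ∈ ptStab S Φ, d * d = 1 → d = 1 ∨ d = d₀ * d₀ := by
      have ho : orderOf (⟨d₀, hd₀⟩ : ptStab S Φ) = 4 := by
        have h1 : orderOf (⟨d₀, hd₀⟩ : ptStab S Φ) ∣ 4 := hi ▸ orderOf_dvd_natCard _
        have h2 : ¬ orderOf (⟨d₀, hd₀⟩ : ptStab S Φ) ∣ 2 := fun h => hd₀2 (by
          have := orderOf_dvd_iff_pow_eq_one.1 h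
          rw [pow_two] at this
          exact congrArg Subtype.val this)
        have h3 := Nat.le_of_dvd (by norm_num) h1
        interval_cases orderOf (⟨d₀, hd₀⟩ : ptStab S Φ) <;> simp_all
      intro d hd hd2
      have htop : zpowers (⟨d₀, hd₀⟩ : ptStab S Φ) = ⊤ :=
        eq_top_of_card_eq _ (by rw [Nat.card_zpowers, ho, hi])
      have hmem : (⟨d, hd⟩ : ptStab S Φ) ∈ zpowers (⟨d₀, hd₀⟩ : ptStab S Φ) := htop ▸ mem_top _
      rw [mem_zpowers_iff_mem_range_orderOf, ho] at hmem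
      obtain ⟨m, hm, hmd⟩ := Finset.mem_image.1 hmem
      have hmd' : d₀ ^ m = d := congrArg Subtype.val hmd
      have ho' : orderOf d₀ = 4 := (Subgroup.orderOf_coe (⟨d₀, hd₀⟩ : ptStab S Φ)).trans ho
      have hdd : d₀ ^ (2 * m) = 1 := by
        rw [two_mul, pow_add, hmd']; exact hd2
      rw [← orderOf_dvd_iff_pow_eq_one, ho'] at hdd
      rw [Finset.mem_range] at hm
      interval_cases m
      · exact Or.inl (by rw [← hmd', pow_zero])
      · omega
      · exact Or.inr (by rw [← hmd', pow_two])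
      · omega
    obtain ⟨s, hsS, hconj⟩ := C.conj
    refine bound_of_noEight M.group (noEight_of M.group htS hto fun A hAS hAexp hAt => ?_)
    let g : Fin 2 × Fin 2 → G := fun x =>
      (d₀ * d₀) ^ (x.1 : ℕ) * (s * (d₀ * d₀) ^ (x.2 : ℕ) * s⁻¹)
    have hsub : (A : Set G) ⊆ Set.range g := by
      intro x hx
      obtain ⟨d, hd, e, he, rfl⟩ := hdecomp x (hcent x (hAS hx) (hAt x hx))
      obtain ⟨hd2, he2⟩ := hsqprod d hd e he (hAexp _ hx)
      have he' := hgen _ ((hconj e).1 he) (by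
        rw [show s⁻¹ * e * s * (s⁻¹ * e * s) = s⁻¹ * (e * e) * s by group, he2]
        group)
      rcases hgen d hd hd2 with hd' | hd' <;> rcases he' with he'' | he''
      all_goals
        have hes : e = s * (s⁻¹ * e * s) * s⁻¹ := by group
        rw [he''] at hes
      · exact ⟨(0, 0), by simp [g, hd', hes]⟩
      · exact ⟨(0, 1), by simp [g, hd', hes]⟩
      · exact ⟨(1, 0), by simp [g, hd', hes]⟩
      · exact ⟨(1, 1), by simp [g, hd', hes]⟩
    rw [← SetLike.coe_sort_coe, Nat.card_coe_set_eq]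
    refine (Set.ncard_le_ncard hsub (Set.finite_range g)).trans ?_
    rw [← Nat.card_coe_set_eq]
    refine (Finite.card_range_le g).trans ?_
    simp

end CfsgLib.Perm.FixityFour
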