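import Cfsg.Agent.Lib.Perm.FixityFour.TwoLocal
import Cfsg.Agent.Lib.PGroup.SelfCentEight.Basic
import Mathlib.GroupTheory.QuotientGroup.Basic

/-!
# A 2-group stabilizing two small sets and acting faithfully on their union
-/

set_option autoImplicit false
set_option linter.unusedSectionVars false

open MulAction Subgroup
open scoped Pointwise

namespace CfsgLib.Perm.FixityFour

open CfsgLib.Invol.SectFour (Bound)

theorem card_le_two_of_perm {Q α : Type*} [Group Q] [Finite Q] [Fintype α] [DecidableEq α]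
    (hQ : IsPGroup 2 Q) (f : Q →* Equiv.Perm α) (hf : Function.Injective f)
    (hα : Fintype.card α ≤ 3) : Nat.card Q ≤ 2 := by
  haveI : Fact (Nat.Prime 2) := ⟨Nat.prime_two⟩
  obtain ⟨k, hk⟩ := IsPGroup.iff_card.1 hQ
  have h := card_subgroup_dvd_card f.range
  rw [← Nat.card_congr (MonoidHom.ofInjective hf).toEquiv, hk, Nat.card_eq_fintype_card,
    Fintype.card_perm] at h
  rw [hk]
  exact pow_le_two (h.trans (Nat.factorial_dvd_factorial hα))

theorem index_le_four {Q α : Type*} [Group Q] [Finite Q] [Fintype α] [DecidableEq α]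
    (hQ : IsPGroup 2 Q) (f : Q →* Equiv.Perm α) (hf : Function.Injective f)
    (hα : Fintype.card α ≤ 4) (M : Subgroup Q) (hsq : ∀ a : Q, a * a ∈ M) : M.index ≤ 4 := by
  haveI : Fact (Nat.Prime 2) := ⟨Nat.prime_two⟩
  obtain ⟨k, hk⟩ := IsPGroup.iff_card.1 hQ
  rcases Nat.lt_or_ge (Fintype.card α) 4 with h3 | h4
  · have h2 := card_le_two_of_perm hQ f hf (Nat.lt_succ_iff.1 h3)
    have := Nat.le_of_dvd Nat.card_pos M.index_dvd_card
    omega
  have hα4 : Fintype.card α = 4 := le_antisymm hα h4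
  have h := card_subgroup_dvd_card f.range
  rw [← Nat.card_congr (MonoidHom.ofInjective hf).toEquiv, hk,
    Nat.card_eq_fintype_card (α := Equiv.Perm α), Fintype.card_perm, hα4] at h
  have h8 : Nat.card Q ≤ 8 := hk ▸ pow_le_eight h
  by_contra hgt
  push Not at hgt
  obtain ⟨i, hik, hi⟩ := (Nat.dvd_prime_pow Nat.prime_two).1 (hk ▸ M.index_dvd_card)
  have hi3 : 3 ≤ i := by
    by_contra hlt
    have : (2 : ℕ) ^ i ≤ 2 ^ 2 := Nat.pow_le_pow_right two_pos (by omega)
    omega
  have h23 : (2 : ℕ) ^ 3 ≤ 2 ^ i := Nat.pow_le_pow_right two_pos hi3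
  have hle := Nat.le_of_dvd Nat.card_pos M.index_dvd_card
  have hQ8 : Nat.card Q = 8 := by omega
  have hM : M = ⊥ := eq_bot_of_card_eq _ (by
    have := M.card_mul_index
    rw [show M.index = 8 by omega, hQ8] at this
    omega)
  have hexp : ∀ a : Q, a * a = 1 := fun a => mem_bot.1 (hM ▸ hsq a)
  refine card_commutative_ne_eight hα4 f.range ?_ ?_
  · rintro _ ⟨a, rfl⟩ _ ⟨b, rfl⟩
    have hab : a * b = b * a :=
      calc a * b = a⁻¹ * b⁻¹ := by
            rw [inv_eq_of_mul_eq_one_left (hexp a), inv_eq_of_mul_eq_one_left (hexp b)]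
        _ = (b * a)⁻¹ := (mul_inv_rev b a).symm
        _ = b * a := inv_eq_of_mul_eq_one_left (hexp _)
    rw [← map_mul, ← map_mul, hab]
  · rw [← Nat.card_congr (MonoidHom.ofInjective hf).toEquiv, hQ8]

variable {G Ω : Type*} [Group G] [MulAction G Ω] [Finite G] [Finite Ω] {S : Subgroup G} {Φ Φ' : Set Ω}

/-- The action on a stabilized set. -/
def actTop (hst : ∀ s ∈ S, s • Φ = Φ) : S →* Equiv.Perm Φ :=
  (res Φ).comp (Subgroup.inclusion fun s hs => mem_stabilizer_iff.2 (hst s hs))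

theorem actTop_eq_one (hst : ∀ s ∈ S, s • Φ = Φ) {s : S} :
    actTop hst s = 1 ↔ Φ ⊆ fixedBy Ω (s : G) :=
  res_eq_one.trans mem_pw

theorem bound_of_pair (h2 : IsPGroup 2 S) (h4 : Φ.ncard ≤ 4) (h4' : Φ'.ncard ≤ 4)
    (hst : ∀ s ∈ S, s • Φ = Φ) (hst' : ∀ s ∈ S, s • Φ' = Φ')
    (htriv : ∀ s ∈ S, Φ ⊆ fixedBy Ω s → Φ' ⊆ fixedBy Ω s → s = 1) :
    Bound S ∧ (Φ.ncard ≤ 3 → Φ'.ncard ≤ 3 → Nat.card S ≤ 4) := by
  classical
  haveI : Fintype Φ := Fintype.ofFinite _
  haveI : Fintype Φ' := Fintype.ofFinite _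
  have hc : Fintype.card Φ = Φ.ncard := by rw [← Nat.card_eq_fintype_card, Nat.card_coe_set_eq]
  have hc' : Fintype.card Φ' = Φ'.ncard := by rw [← Nat.card_eq_fintype_card, Nat.card_coe_set_eq]
  set C := (actTop hst).ker with hC
  have hinj : Function.Injective ((actTop hst').comp C.subtype) := by
    rw [injective_iff_map_eq_one]
    intro c hc1
    refine Subtype.ext (Subtype.ext ?_)
    exact htriv _ (c : S).2 ((actTop_eq_one hst).1 (MonoidHom.mem_ker.1 c.2))
      ((actTop_eq_one hst').1 hc1)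
  refine ⟨bound_of_top fun R M hMR hsq => ?_, fun h3 h3' => ?_⟩
  · refine (CfsgLib.PGroup.SelfCentEight.relIndex_le_map_mul (C := C) hMR).trans ?_
    refine le_of_le_of_eq (Nat.mul_le_mul ?_ ?_) (by norm_num : 4 * 4 = 16)
    · show ((M.map (QuotientGroup.mk' C)).subgroupOf (R.map (QuotientGroup.mk' C))).index ≤ 4
      refine index_le_four ((h2.to_quotient C).to_subgroup _)
        ((QuotientGroup.kerLift (actTop hst)).comp (R.map (QuotientGroup.mk' C)).subtype)
        ((QuotientGroup.kerLift_injective _).comp Subtype.val_injective) (by omega) _ ?_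
      rintro ⟨_, a, ha, rfl⟩
      exact mem_subgroupOf.2 ⟨a * a, hsq a ha, map_mul _ _ _⟩
    · show (M.subgroupOf (R ⊓ C)).index ≤ 4
      refine index_le_four (h2.to_subgroup _)
        ((actTop hst').comp (R ⊓ C).subtype) ?_ (by omega) _ fun a => ?_
      · intro a b hab
        exact inclusion_injective (inf_le_right : R ⊓ C ≤ C) (hinj hab)
      · exact mem_subgroupOf.2 (hsq a a.2.1)
  · have h1 : Nat.card C ≤ 2 := card_le_two_of_perm (h2.to_subgroup _) _ hinj (by omega)
    have h2' : Nat.card (S ⧸ C) ≤ 2 := card_le_two_of_perm (h2.to_quotient C)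
      (QuotientGroup.kerLift (actTop hst)) (QuotientGroup.kerLift_injective _) (by omega)
    rw [card_eq_card_quotient_mul_card_subgroup C]
    exact le_of_le_of_eq (Nat.mul_le_mul h2' h1) (by norm_num)

end CfsgLib.Perm.FixityFour
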